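import Cfsg.Agent.Lib.Chev.Monomial

/-!
The sign of n_p(1) on the pair of a fundamental root p.
-/

set_option autoImplicit false
set_option linter.unusedSectionVars false

namespace CfsgLib.Steinberg

open Cfsg.Lie CfsgLib.Chev

variable {D : ChevalleyDatum} {T : Tabs} (K : Type*) [Field K] (hc : Checked D T)
include hc

/-- x_p(t) does not move e_p -/
theorem x_col_self {p : ℕ} (hp : p < D.nroots) (t : K) (z : D.Idx) :
    (D.x K p t) z (Sum.inr ⟨p, hp⟩) = if z = Sum.inr ⟨p, hp⟩ then 1 else 0 := by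
  rw [ChevalleyDatum.x, dif_pos hp]
  rcases z with i | u <;> simp [ChevalleyDatum.xMat]

/-- nothing else is moved onto e_{-p} by x_p(t) -/
theorem x_row_neg {p : ℕ} (hp : p < D.nroots) (t : K) (z : D.Idx) :
    (D.x K p t) (Sum.inr ⟨D.neg p, neg_lt hc hp⟩) z = if z = Sum.inr ⟨D.neg p, neg_lt hc hp⟩ then 1 else 0 := by
  set y : D.Idx := Sum.inr ⟨D.neg p, neg_lt hc hp⟩ with hy
  have hw : ∀ k, k = 1 ∨ k = 2 ∨ k = 3 → tabMat D T k p y z = 0 := by
    intro k hk
    by_contra hne
    have h := weight_spec hc hk (by omega) hne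
    rw [hy, wI_inr, rv_neg hc hp] at h
    rcases z with j | u
    · rw [wI_inl] at h
      have : ((k : ℤ) + 1) • rv D T p = 0 := by
        funext a; have := congrFun h a
        simp only [Pi.add_apply, Pi.neg_apply, Pi.smul_apply, smul_eq_mul, Pi.zero_apply] at this ⊢; linarith
      rcases smul_eq_zero.1 this with g | g
      · omega
      · exact rv_ne_zero hc hp g
    · rw [wI_inr] at h
      have h2 : ((k : ℤ) + 1) • rv D T p + (1 : ℤ) • rv D T u.val = 0 := by
        funext a; have := congrFun h a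
        simp only [Pi.add_apply, Pi.neg_apply, Pi.smul_apply, smul_eq_mul, Pi.zero_apply] at this ⊢; linarith
      rcases eq_or_eq_neg_of_prop hc hp u.val u.2 _ 1 one_ne_zero h2 with r | r <;> rw [r] at h2
      · have : ((k : ℤ) + 2) • rv D T p = 0 := by rw [← h2]; module
        rcases smul_eq_zero.1 this with g | g
        · omega
        · exact rv_ne_zero hc hp g
      · rw [rv_neg hc hp] at h2
        have : (k : ℤ) • rv D T p = 0 := by rw [← h2]; module
        rcases smul_eq_zero.1 this with g | g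
        · omega
        · exact rv_ne_zero hc hp g
  rw [xMat_eq hc K hp]
  simp only [xTab, Matrix.add_apply, Matrix.smul_apply, Matrix.map_apply, hw 1 (Or.inl rfl),
    hw 2 (Or.inr (Or.inl rfl)), hw 3 (Or.inr (Or.inr rfl)), map_zero, smul_zero, add_zero, Matrix.one_apply]
  exact if_congr eq_comm rfl rfl

theorem eta_simple (i : Fin D.rank) : (eta D T i (D.simple i) : K) = -1 := by
  classical
  have hp := simple_lt hc i.2
  have hn := neg_lt hc hp
  have h1 := congrFun (eta_spec hc i hp).2 (Sum.inr ⟨D.neg (D.simple i), hn⟩)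
  rw [sig_simple hc, show eVec D (D.simple i) = _ from eVec_eq ⟨_, hp⟩, Matrix.mulVec_single_one, Matrix.col_apply,
    Pi.smul_apply, eVec, cd_inr, if_pos rfl, smul_eq_mul, mul_one] at h1
  have h2 := congrFun (congrFun (coe_elN_simple_one hc (F := K) i) (Sum.inr ⟨D.neg (D.simple i), hn⟩))
    (Sum.inr ⟨D.simple i, hp⟩)
  rw [Matrix.map_apply, h1, eq_intCast] at h2
  rw [← h2, elN, Units.val_mul, Units.val_mul, coe_elX hc K hp, coe_elX hc K hn]
  rw [Matrix.mul_apply, Finset.sum_eq_single (Sum.inr ⟨D.simple i, hp⟩)]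
  rotate_left
  · intro z _ hz; rw [x_col_self K hc hp, if_neg hz, mul_zero]
  · simp
  rw [x_col_self K hc hp, if_pos rfl, mul_one, Matrix.mul_apply,
    Finset.sum_eq_single (Sum.inr ⟨D.neg (D.simple i), hn⟩)]
  rotate_left
  · intro z _ hz; rw [x_row_neg K hc hp, if_neg hz, zero_mul]
  · simp
  rw [x_row_neg K hc hp, if_pos rfl, one_mul, ChevalleyDatum.x, dif_pos hn]
  have hne : D.simple i ≠ D.neg (D.simple i) := fun e => by
    have := congrArg (rv D T) e
    rw [rv_neg hc hp] at this
    have h3 : (2 : ℤ) • rv D T (D.simple i) = 0 := by rw [two_smul]; exact add_eq_zero_iff_eq_neg.2 this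
    rcases smul_eq_zero.1 h3 with g | g
    · omega
    · exact rv_ne_zero hc hp g
  simp [ChevalleyDatum.xMat, Fin.ext_iff, hne, hne.symm,
    show D.negIdx.getD (D.neg (D.simple i)) 0 = D.simple i from neg_neg_root hc hp]

end CfsgLib.Steinberg
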