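import Cfsg.Agent.Lib.Steinberg.Conj
import Cfsg.Agent.Lib.Steinberg.Eta

/-!
The elements h_r(t) in a system of root elements; over a finite field they are multiplicative.
-/

set_option autoImplicit false
set_option linter.unusedSectionVars false

namespace CfsgLib.Steinberg

open Cfsg.Lie CfsgLib.Chev

variable {D : ChevalleyDatum} {T : Tabs} {K : Type*} [Field K] {E : Type*} [Group E]

/-- a nonsquare one more than a square -/
theorem exists_nonsquare_shift [Finite K] (h : ∃ a : Kˣ, ¬IsSquare a) :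
    ∃ a r : Kˣ, ¬IsSquare a ∧ (a : K) = (r : K) ^ 2 + 1 := by
  haveI := Fintype.ofFinite K
  obtain ⟨n, hn⟩ := h
  have hodd : Fintype.card K % 2 = 1 := by
    refine FiniteField.odd_card_of_char_ne_two (fun h2 => hn ?_)
    obtain ⟨z, hz⟩ := FiniteField.isSquare_of_char_two h2 (n : K)
    have hz0 : z ≠ 0 := fun e => n.ne_zero (by rw [hz, e, mul_zero])
    exact ⟨Units.mk0 z hz0, Units.ext hz⟩
  obtain ⟨x, y, hxy⟩ := FiniteField.exists_root_sum_quadratic (f := (Polynomial.X ^ 2 : Polynomial K))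
    (g := Polynomial.X ^ 2 - Polynomial.C (n : K)) (Polynomial.degree_X_pow 2)
    (Polynomial.degree_X_pow_sub_C two_pos _) hodd
  simp only [Polynomial.eval_pow, Polynomial.eval_X, Polynomial.eval_sub, Polynomial.eval_C] at hxy
  have hx : x ≠ 0 := fun e => by
    have hy : y ≠ 0 := fun e' => n.ne_zero (by rw [e, e'] at hxy; linear_combination -hxy)
    exact hn ⟨Units.mk0 y hy, Units.ext (by rw [Units.val_mul, Units.val_mk0]; rw [e] at hxy; linear_combination -hxy)⟩
  have hy : y ≠ 0 := fun e =>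
    hn ⟨Units.mk0 x hx, Units.ext (by rw [Units.val_mul, Units.val_mk0]; rw [e] at hxy; linear_combination -hxy)⟩
  refine ⟨n * (Units.mk0 y hy)⁻¹ * (Units.mk0 y hy)⁻¹, Units.mk0 x hx * (Units.mk0 y hy)⁻¹, ?_, ?_⟩
  · rintro ⟨z, hz⟩
    refine hn ⟨z * Units.mk0 y hy, ?_⟩
    calc n = n * (Units.mk0 y hy)⁻¹ * (Units.mk0 y hy)⁻¹ * (Units.mk0 y hy * Units.mk0 y hy) := by group
      _ = _ := by rw [hz, mul_mul_mul_comm]
  · simp only [Units.val_mul, Units.val_inv_eq_inv_val, Units.val_mk0]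
    field_simp
    linear_combination -hxy

/-- the product of two nonsquares is a square -/
theorem isSquare_mul_of_not [Finite K] {a b : Kˣ} (ha : ¬IsSquare a) (hb : ¬IsSquare b) : IsSquare (a * b) := by
  obtain ⟨ζ, hζ⟩ := IsCyclic.exists_generator (α := Kˣ)
  have key : ∀ c : Kˣ, ¬IsSquare c → ∃ m : ℤ, c = ζ ^ (2 * m + 1) := fun c hc => by
    obtain ⟨k, hk⟩ := Subgroup.mem_zpowers_iff.1 (hζ c)
    rcases Int.even_or_odd k with ⟨m, hm⟩ | ⟨m, hm⟩
    · exact absurd ⟨ζ ^ m, by rw [← hk, hm, zpow_add]⟩ hc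
    · exact ⟨m, by rw [← hk, hm]⟩
  obtain ⟨m, rfl⟩ := key a ha
  obtain ⟨n, rfl⟩ := key b hb
  exact ⟨ζ ^ (m + n + 1), by rw [← zpow_add, ← zpow_add]; congr 1; ring⟩

/-- the homomorphism t ↦ corChar r t -/
noncomputable def corHom (D : ChevalleyDatum) (T : Tabs) (r : ℕ) : Kˣ →* (Fin D.rank → Kˣ) :=
  MonoidHom.mk' (corChar D T r) (corChar_mul r)

theorem mem_center_of_conj {y : ℕ → K → E} (gen : yGen D y (fun _ => True) = ⊤) {g : E}
    (h : ∀ r t, r < D.nroots → g * y r t * g⁻¹ = y r t) : g ∈ Subgroup.center E := by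
  have h1 : yGen D y (fun _ => True) ≤ Subgroup.centralizer {g} := by
    rw [yGen, Subgroup.closure_le]
    rintro x ⟨r, t, hr, -, rfl⟩
    rw [SetLike.mem_coe, Subgroup.mem_centralizer_singleton_iff]
    exact (mul_inv_eq_iff_eq_mul.1 (h r t hr)).symm
  rw [gen] at h1
  exact Subgroup.mem_center_iff.2 fun x => Subgroup.mem_centralizer_singleton_iff.1 (h1 (Subgroup.mem_top x))

namespace Sys

variable {y : ℕ → K → E} {φ : E →* GL D.Idx K} (S : Sys D T y φ)
include S

theorem nE_inv {r : ℕ} (hr : r < D.nroots) (t : K) : (nE D y r t)⁻¹ = nE D y r (-t) := by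
  simp only [nE, mul_inv_rev, S.y_inv hr, S.y_inv (neg_lt S.checked hr), neg_neg, inv_neg, mul_assoc]

theorem hE_mem {r : ℕ} (hr : r < D.nroots) (t : K) : hE D y r t ∈ pairGrp D y r :=
  mul_mem (S.nE_mem hr t) (S.nE_mem hr _)

theorem proj_hE {r : ℕ} (hr : r < D.nroots) (t : Kˣ) :
    φ (hE D y r (t : K)) = torus D T K (corChar D T r t) := by
  rw [hE, map_mul, S.proj_nE hr, S.proj_nE hr, ← elH_eq_torus S.checked hr]
  rfl

theorem hE_one {r : ℕ} (hr : r < D.nroots) : hE D y r (1 : K) = 1 := by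
  rw [hE, ← S.nE_inv hr, mul_inv_cancel]

/-- lifts of torus elements from the group of a pair act diagonally -/
theorem conj_torus {p : ℕ} (hp : p < D.nroots) {g : E} (hg : g ∈ pairGrp D y p) {χ : Fin D.rank → Kˣ}
    (h : φ g = torus D T K χ) : Conj D y g (fun r => r) (fun r => chi χ (rv D T r)) :=
  S.conj_lift hp hg (fun _ hr => hr) (AddEquiv.refl _) (fun _ _ => rfl) (fun r _ => ⟨0, by simp⟩)
    (fun r t hr => by rw [h, torus_conj_elX S.checked χ hr])

theorem conj_hE {r : ℕ} (hr : r < D.nroots) (t : Kˣ) :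
    Conj D y (hE D y r (t : K)) (fun s => s) (fun s => chi (corChar D T r t) (rv D T s)) :=
  S.conj_torus hr (S.hE_mem hr _) (S.proj_hE hr t)

variable (gen : yGen D y (fun _ => True) = ⊤)
include gen

theorem pair_ker_central {p : ℕ} (hp : p < D.nroots) {g : E} (hg : g ∈ pairGrp D y p) (h : φ g = 1) :
    g ∈ Subgroup.center E :=
  mem_center_of_conj gen fun r t hr => by
    simp [S.conj_torus hp hg (χ := 1) (by rw [h, map_one]) r t hr, chi_one]

theorem hE_commute [Finite K] {r : ℕ} (hr : r < D.nroots) (t u : Kˣ) :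
    Commute (hE D y r (t : K)) (hE D y r (u : K)) := by
  obtain ⟨ζ, hζ⟩ := IsCyclic.exists_generator (α := Kˣ)
  have key : ∀ t : Kˣ, ∃ z ∈ Subgroup.center E, ∃ m : ℤ, hE D y r (t : K) = z * hE D y r (ζ : K) ^ m := fun t => by
    obtain ⟨m, rfl⟩ := Subgroup.mem_zpowers_iff.1 (hζ t)
    refine ⟨hE D y r ((ζ ^ m : Kˣ) : K) * (hE D y r (ζ : K) ^ m)⁻¹,
      S.pair_ker_central gen hr (mul_mem (S.hE_mem hr _) (inv_mem (zpow_mem (S.hE_mem hr _) m))) ?_, m,
      (inv_mul_cancel_right _ _).symm⟩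
    rw [map_mul, map_inv, map_zpow, S.proj_hE hr, S.proj_hE hr, ← map_zpow,
      show corChar D T r (ζ ^ m) = corChar D T r ζ ^ m from map_zpow (corHom D T r) ζ m, mul_inv_cancel]
  obtain ⟨z, hz, m, e⟩ := key t
  obtain ⟨w, hw, n, f⟩ := key u
  rw [e, f]
  exact ((Commute.mul_right (Subgroup.mem_center_iff.1 hz _).symm (Subgroup.mem_center_iff.1 hz _).symm)).mul_left
    (Commute.mul_right (Subgroup.mem_center_iff.1 hw _) (Commute.zpow_zpow_self _ m n))

omit gen

/-- the action of n_p(t) on its pair -/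
theorem conj_pair (i : Fin D.rank) (t : Kˣ) (u : K) :
    nE D y (D.simple i) (t : K) * y (D.simple i) u * (nE D y (D.simple i) (t : K))⁻¹ =
        y (D.neg (D.simple i)) (-(u / (t : K) ^ 2)) ∧
      nE D y (D.simple i) (t : K) * y (D.neg (D.simple i)) u * (nE D y (D.simple i) (t : K))⁻¹ =
        y (D.simple i) (-((t : K) ^ 2 * u)) := by
  obtain ⟨c, h, hc⟩ := S.conj_nE i t
  have hp := simple_lt S.checked i.2
  have hn := neg_lt S.checked hp
  have e2 : chi (corChar D T (D.simple i) t) (rv D T (D.simple i)) = t ^ (2 : ℤ) := by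
    rw [chi_corChar_simple S.checked i hp]
    congr 1
    exact cm_self S.checked i
  have sgn : ∀ s, eta D T i s = eta D T i (D.simple i) → (eta D T i s : K) = -1 := fun s hs => by
    rw [hs, eta_simple K S.checked i]
  constructor
  · rw [h _ _ hp, sig_simple S.checked, hc _ hp, sgn _ rfl, sig_simple S.checked, rv_neg S.checked hp,
      chi_neg, e2]
    congr 1
    simp [field, div_eq_mul_inv]
    ring
  · rw [h _ _ hn, sig_neg S.checked i hp, sig_simple S.checked, neg_neg_root S.checked hp, hc _ hn,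
      sgn _ (eta_neg S.checked i hp), sig_neg S.checked i hp, sig_simple S.checked, neg_neg_root S.checked hp, e2]
    congr 1
    simp

/-- Steinberg's identity -/
theorem nE_mul_nE (i : Fin D.rank) {a b : Kˣ} (hab : (a : K) + b = 1) :
    nE D y (D.simple i) (a : K) * nE D y (D.simple i) (b : K) =
      nE D y (D.simple i) ((a : K) * a) * nE D y (D.simple i) ((a : K) * b) := by
  set p := D.simple i
  have hp : p < D.nroots := simple_lt S.checked i.2
  have hn : D.neg p < D.nroots := neg_lt S.checked hp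
  set x := y p
  set x' := y (D.neg p)
  set w := nE D y p
  have ha : (a : K) ≠ 0 := a.ne_zero
  have hb : (b : K) ≠ 0 := b.ne_zero
  have wdef : ∀ t : K, w t = x t * x' (-t⁻¹) * x t := fun _ => rfl
  have fl : ∀ (t : Kˣ) (u : K), w t * x u = x' (-(u / (t : K) ^ 2)) * w t := fun t u =>
    mul_inv_eq_iff_eq_mul.1 (S.conj_pair i t u).1
  have fl' : ∀ (t : Kˣ) (u : K), w t * x' u = x (-((t : K) ^ 2 * u)) * w t := fun t u =>
    mul_inv_eq_iff_eq_mul.1 (S.conj_pair i t u).2
  have xadd : ∀ s t, x s * x t = x (s + t) := fun s t => (S.add p s t hp).symm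
  have xadd' : ∀ s t, x' s * x' t = x' (s + t) := fun s t => (S.add _ s t hn).symm
  have wdef' : ∀ t : Kˣ, w t = x' (-((t : K)⁻¹)) * x t * x' (-((t : K)⁻¹)) := fun t => by
    have h := fl t t
    rw [show -((t : K) / (t : K) ^ 2) = -((t : K)⁻¹) by field_simp] at h
    have h2 : x' (-((t : K)⁻¹)) * w t = x' (-((t : K)⁻¹)) * x t * x' (-((t : K)⁻¹)) * x t := by
      rw [wdef]; simp only [mul_assoc]
    exact mul_right_cancel (h.trans h2)
  have step : x' (-(((a * b : Kˣ) : K)⁻¹)) = x (-((a * b : Kˣ) : K)) * w (a * b : Kˣ) *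
      x (-((a * b : Kˣ) : K)) := by
    rw [wdef]
    rw [show ∀ A B C : E, A * (B * C * B) * A = (A * B) * C * (B * A) from fun A B C => by simp only [mul_assoc],
      xadd, xadd, neg_add_cancel, add_neg_cancel, show x 0 = 1 from S.y_zero hp, one_mul, mul_one]
  calc w (a : K) * w (b : K)
      = x' (-((a : K)⁻¹)) * x a * x' (-(((a * b : Kˣ) : K)⁻¹)) * x b * x' (-((b : K)⁻¹)) := by
        rw [wdef' a, wdef' b]
        rw [show ∀ A B C P Q R : E, A * B * C * (P * Q * R) = A * B * (C * P) * Q * R from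
          fun _ _ _ _ _ _ => by simp only [mul_assoc], xadd']
        congr 4
        rw [Units.val_mul]; field_simp
        linear_combination -hab
    _ = x' (-((a : K)⁻¹)) * x ((a : K) * a) * (w (a * b : Kˣ) * x ((b : K) * b)) * x' (-((b : K)⁻¹)) := by
        rw [step, show ∀ A B C P Q R : E, A * B * (C * P * C) * Q * R = A * (B * C) * (P * (C * Q)) * R from
          fun _ _ _ _ _ _ => by simp only [mul_assoc], xadd, xadd]
        rw [show (a : K) + -((a * b : Kˣ) : K) = (a : K) * a by rw [Units.val_mul]; linear_combination -(a : K) * hab,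
          show -((a * b : Kˣ) : K) + (b : K) = (b : K) * b by rw [Units.val_mul]; linear_combination -(b : K) * hab]
    _ = x' (-((a : K)⁻¹)) * x ((a : K) * a) * x' (-(((a : K) * a)⁻¹)) * x ((a : K) * a * b) * w (a * b : Kˣ) := by
        rw [fl (a * b), show ∀ A B C P Q : E, A * B * (C * P) * Q = A * B * C * (P * Q) from
          fun _ _ _ _ _ => by simp only [mul_assoc], fl' (a * b),
          show ∀ A B C P Q : E, A * B * C * (P * Q) = A * B * C * P * Q from fun _ _ _ _ _ => by simp only [mul_assoc],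
          Units.val_mul]
        congr 3
        · congr 1; field_simp
        · field_simp
    _ = x' (-((a : K)⁻¹)) * (w ((a : K) * a) * x (-((a : K) * a * a))) * w (a * b : Kˣ) := by
        rw [show x ((a : K) * a * b) = x ((a : K) * a) * x (-((a : K) * a * a)) by
          rw [xadd]; congr 1; linear_combination ((a : K) * a) * hab, wdef ((a : K) * a)]
        simp only [mul_assoc]
    _ = _ := by
        rw [← Units.val_mul, fl (a * a), show ∀ A B C P : E, A * (B * C) * P = A * B * C * P from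
          fun _ _ _ _ => by simp only [mul_assoc], xadd', Units.val_mul, Units.val_mul,
          show -((a : K)⁻¹) + -(-((a : K) * a * a) / ((a : K) * a) ^ 2) = 0 by field_simp; ring,
          show x' 0 = 1 from S.y_zero hn, one_mul]

theorem hE_mul_hE_inv {r : ℕ} (hr : r < D.nroots) (t u : K) :
    nE D y r t * nE D y r u = hE D y r t * (hE D y r (-u))⁻¹ := by
  rw [hE, hE, mul_inv_rev, S.nE_inv hr (-u), neg_neg]
  group

/-- over a finite field h_p is multiplicative, p fundamental -/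
theorem hE_mul_simple [Finite K] (gen : yGen D y (fun _ => True) = ⊤) (i : Fin D.rank) (t u : Kˣ) :
    hE D y (D.simple i) ((t * u : Kˣ) : K) = hE D y (D.simple i) (t : K) * hE D y (D.simple i) (u : K) := by
  set p := D.simple i
  have hp : p < D.nroots := simple_lt S.checked i.2
  set h : Kˣ → E := fun t => hE D y p (t : K) with hh
  show h (t * u) = h t * h u
  have comm : ∀ s t, h s * h t = h t * h s := fun s t => S.hE_commute gen hp s t
  have conjn : ∀ (s : Kˣ) (v : K), h s * nE D y p v * (h s)⁻¹ = nE D y p ((s : K) ^ 2 * v) := by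
    intro s v
    have h1 := S.conj_hE hp s
    have e2 : chi (corChar D T p s) (rv D T p) = s ^ (2 : ℤ) := by
      rw [chi_corChar_simple S.checked i hp]
      congr 1
      exact cm_self S.checked i
    rw [nE, show ∀ G A B C : E, G * (A * B * C) * G⁻¹ = (G * A * G⁻¹) * (G * B * G⁻¹) * (G * C * G⁻¹) from
      fun _ _ _ _ => by group, hh, h1 _ _ hp, h1 _ _ (neg_lt S.checked hp), nE]
    simp only [rv_neg S.checked hp, chi_neg, e2]
    congr 2
    simp [mul_inv, mul_comm]
  have sq : ∀ s v : Kˣ, h (s * s * v) = h (s * s) * h v := by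
    intro s v
    have h1 : h s * h v * (h s)⁻¹ = h v := by rw [comm, mul_inv_cancel_right]
    rw [show h v = nE D y p (v : K) * nE D y p (-1) from rfl,
      show ∀ G A B : E, G * (A * B) * G⁻¹ = (G * A * G⁻¹) * (G * B * G⁻¹) from fun _ _ _ => by group,
      conjn, conjn, S.hE_mul_hE_inv hp, S.hE_mul_hE_inv hp, neg_neg, hE_one S hp, inv_one, mul_one,
      mul_inv_eq_iff_eq_mul] at h1
    have e : ∀ w : Kˣ, ((s : K) ^ 2 * (w : K)) = ((s * s * w : Kˣ) : K) := fun w => by push_cast; ring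
    rw [e, show -((s : K) ^ 2 * -1) = ((s * s : Kˣ) : K) by push_cast; ring] at h1
    rw [comm]
    exact h1
  by_cases ht : IsSquare t
  · obtain ⟨s, rfl⟩ := ht; exact sq s u
  by_cases hu : IsSquare u
  · obtain ⟨s, rfl⟩ := hu; rw [mul_comm t, comm]; exact sq s t
  obtain ⟨a, r, ha, har⟩ := exists_nonsquare_shift (K := K) ⟨t, ht⟩
  -- h(a)² = h(a²)
  have ha2 : h a * h a = h (a * a) := by
    have h1 := S.nE_mul_nE i (a := a) (b := -(r * r)) (by push_cast; rw [har]; ring)
    rw [S.hE_mul_hE_inv hp, S.hE_mul_hE_inv hp,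
      show -((-(r * r) : Kˣ) : K) = ((r * r : Kˣ) : K) by simp,
      show -((a : K) * ((-(r * r) : Kˣ) : K)) = ((r * r * a : Kˣ) : K) by push_cast; ring,
      show (a : K) * a = ((a * a : Kˣ) : K) by simp] at h1
    change h a * (h (r * r))⁻¹ = h (a * a) * (h (r * r * a))⁻¹ at h1
    rw [sq, eq_mul_inv_iff_mul_eq] at h1
    rw [← h1]; group
  obtain ⟨s, hs⟩ := isSquare_mul_of_not ht (fun h => ha (by simpa using h.inv) : ¬IsSquare a⁻¹)
  obtain ⟨v, hv⟩ := isSquare_mul_of_not hu (fun h => ha (by simpa using h.inv) : ¬IsSquare a⁻¹)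
  obtain rfl : t = s * s * a := by rw [← hs, inv_mul_cancel_right]
  obtain rfl : u = v * v * a := by rw [← hv, inv_mul_cancel_right]
  rw [show s * s * a * (v * v * a) = s * v * (s * v) * (a * a) by
    simp only [mul_assoc, mul_comm, mul_left_comm], sq (s * v) (a * a), sq s a, sq v a, ← ha2,
    show s * v * (s * v) = s * s * (v * v) from mul_mul_mul_comm _ _ _ _, sq s (v * v)]
  simp only [mul_assoc]
  rw [← mul_assoc (h a) (h (v * v)), comm a (v * v), mul_assoc]

/-- over a finite field every h_r is multiplicative -/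
theorem hE_mul [Finite K] (gen : yGen D y (fun _ => True) = ⊤) {r : ℕ} (hr : r < D.nroots) (t u : Kˣ) :
    hE D y r ((t * u : Kˣ) : K) = hE D y r (t : K) * hE D y r (u : K) := by
  revert t u
  refine root_induction S.checked (T := T)
    (P := fun r => ∀ t u : Kˣ, hE D y r ((t * u : Kˣ) : K) = hE D y r (t : K) * hE D y r (u : K))
    (S.hE_mul_simple gen) (fun i s hs hP t u => ?_) hr
  set v := sig D T i s
  have hv : v < D.nroots := sig_lt S.checked i hs
  obtain ⟨c, hg, hc⟩ := S.conj_nE i (1 : Kˣ)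
  rw [Units.val_one] at hg
  set g := nE D y (D.simple i) (1 : K)
  have c1 : ∀ r, r < D.nroots → (c r : K) = (eta D T i r : K) := fun r hr => by
    rw [hc r hr, corChar_one, chi_one, Units.val_one, one_mul]
  have hn : ∀ w : K, g * nE D y s w * g⁻¹ = nE D y v ((c s : K) * w) := fun w => by
    rw [nE, show ∀ G A B C : E, G * (A * B * C) * G⁻¹ = (G * A * G⁻¹) * (G * B * G⁻¹) * (G * C * G⁻¹) from
      fun _ _ _ _ => by group, hg _ _ hs, hg _ _ (neg_lt S.checked hs), sig_neg S.checked i hs, nE,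
      c1 _ (neg_lt S.checked hs), eta_neg S.checked i hs, ← c1 _ hs]
    congr 2
    rcases eta_cast S.checked (F := K) i hs with e | e <;> simp [c1 _ hs, e, v]
  have hh : ∀ t : Kˣ, g * hE D y s (t : K) * g⁻¹ =
      hE D y v ((c s * t : Kˣ) : K) * (hE D y v (c s : K))⁻¹ := fun t => by
    rw [hE, show ∀ G A B : E, G * (A * B) * G⁻¹ = (G * A * G⁻¹) * (G * B * G⁻¹) from fun _ _ _ => by group,
      hn, hn, S.hE_mul_hE_inv hv, Units.val_mul, mul_neg, mul_one, neg_neg]
  let ψ : Kˣ → E := fun t => g * hE D y s (t : K) * g⁻¹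
  have hψ : ∀ a b, ψ (a * b) = ψ a * ψ b := fun a b => by
    show g * _ * g⁻¹ = g * _ * g⁻¹ * (g * _ * g⁻¹)
    rw [hP a b]; group
  have hv' : ∀ t : Kˣ, hE D y v (t : K) = ψ ((c s)⁻¹ * t) * hE D y v (c s : K) := fun t => by
    show _ = g * _ * g⁻¹ * _
    rw [hh, inv_mul_cancel_right, mul_inv_cancel_left]
  have h0 : ψ (c s)⁻¹ * hE D y v (c s : K) = 1 := by
    have h1 := hv' 1
    rw [mul_one, Units.val_one, S.hE_one hv] at h1
    exact h1.symm
  have hom : ∀ t : Kˣ, hE D y v (t : K) = ψ t := fun t => by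
    rw [hv' t, mul_comm _ t, hψ, mul_assoc, h0, mul_one]
  rw [hom, hom, hom, hψ]

end Sys

end CfsgLib.Steinberg
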