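import Cfsg.Agent.Lib.Steinberg.Conj
import Cfsg.Agent.Lib.Steinberg.Torus
import Cfsg.Agent.Lib.Chev.Borel

/-!
The decomposition U N U in a system of root elements; the kernel of the projection lies in N and is central.
-/

set_option autoImplicit false
set_option linter.unusedSectionVars false

namespace CfsgLib.Steinberg

open Cfsg.Lie CfsgLib.Chev

variable {D : ChevalleyDatum} {T : Tabs} {K : Type*} [Field K] {E : Type*} [Group E]

/-- positive roots -/
def PosR (D : ChevalleyDatum) (r : ℕ) : Prop := D.nroots / 2 ≤ r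

/-- the group generated by the n_p(t), p fundamental -/
def monGrp (D : ChevalleyDatum) (y : ℕ → K → E) : Subgroup E :=
  Subgroup.closure {g | ∃ (i : Fin D.rank) (t : Kˣ), g = nE D y (D.simple i) (t : K)}

namespace Sys

variable {y : ℕ → K → E} {φ : E →* GL D.Idx K} (S : Sys D T y φ)
include S

theorem nE_mem_monGrp (i : Fin D.rank) (t : Kˣ) : nE D y (D.simple i) (t : K) ∈ monGrp D y :=
  Subgroup.subset_closure ⟨i, t, rfl⟩

theorem monGrp_conj {g : E} (hg : g ∈ monGrp D y) :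
    ∃ σ c, Conj D y g σ c ∧ ∀ r, r < D.nroots → σ r < D.nroots ∧ σ (D.neg r) = D.neg (σ r) := by
  have gen : ∀ (i : Fin D.rank) (t : Kˣ),
      ∃ σ c, Conj D y (nE D y (D.simple i) (t : K)) σ c ∧
        ∀ r, r < D.nroots → σ r < D.nroots ∧ σ (D.neg r) = D.neg (σ r) := fun i t => by
    obtain ⟨c, h, -⟩ := S.conj_nE i t
    exact ⟨_, c, h, fun r hr => ⟨sig_lt S.checked i hr, sig_neg S.checked i hr⟩⟩
  induction hg using Subgroup.closure_induction'' with
  | mem x hx => obtain ⟨i, t, rfl⟩ := hx; exact gen i t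
  | inv_mem x hx =>
    obtain ⟨i, t, rfl⟩ := hx
    rw [S.nE_inv (simple_lt S.checked i.2), ← Units.val_neg]
    exact gen i (-t)
  | one => exact ⟨_, _, Conj.one, fun r hr => ⟨hr, rfl⟩⟩
  | mul a b _ _ ha hb =>
    obtain ⟨σ, c, h1, h2⟩ := ha
    obtain ⟨τ, d, g1, g2⟩ := hb
    refine ⟨_, _, h1.comp (fun r hr => (g2 r hr).1) g1, fun r hr => ⟨(h2 _ (g2 r hr).1).1, ?_⟩⟩
    show σ (τ (D.neg r)) = D.neg (σ (τ r))
    rw [(g2 r hr).2, (h2 _ (g2 r hr).1).2]

theorem proj_monGrp {g : E} (hg : g ∈ monGrp D y) : φ g ∈ D.monomialSubgroup K := by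
  induction hg using Subgroup.closure_induction with
  | mem x hx =>
    obtain ⟨i, t, rfl⟩ := hx
    rw [S.proj_nE (simple_lt S.checked i.2), elN_eq_mul S.checked (simple_lt S.checked i.2) t]
    exact mul_mem (diagonal_le_monomial S.checked (torus_corChar_mem S.checked t))
      (elN_mem_monomial S.checked (simple_lt S.checked i.2))
  | one => rw [map_one]; exact one_mem _
  | mul a b _ _ ha hb => rw [map_mul]; exact mul_mem ha hb
  | inv a _ ha => rw [map_inv]; exact inv_mem ha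

/-- U = U' X_p in E -/
theorem pos_split (i : Fin D.rank) {g : E} (hg : g ∈ yGen D y (PosR D)) :
    ∃ a ∈ yGen D y (CompRoot D i), ∃ b, g = a * y (D.simple i) b := by
  have hp := simple_lt S.checked i.2
  have norm : ∀ (b : K) {a : E}, a ∈ yGen D y (CompRoot D i) →
      y (D.simple i) b * a * (y (D.simple i) b)⁻¹ ∈ yGen D y (CompRoot D i) := fun b a ha =>
    S.conj_mem hp (fun s hs hS _ => ⟨ne_neg_of_pos S.checked hp (half_le_simple S.checked i.2) hS.1,
      fun v hv => combRoot_comp S.checked i (Or.inl rfl) hs hS hv⟩) b ha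
  induction hg using Subgroup.closure_induction with
  | mem x hx =>
    obtain ⟨r, t, hr, hP, rfl⟩ := hx
    by_cases e : r = D.simple i
    · subst e; exact ⟨1, one_mem _, t, (one_mul _).symm⟩
    · exact ⟨y r t, mem_yGen hr ⟨hP, e⟩ t, 0, by rw [S.y_zero hp, mul_one]⟩
  | one => exact ⟨1, one_mem _, 0, by rw [S.y_zero hp, mul_one]⟩
  | mul x z _ _ hx hz =>
    obtain ⟨a, ha, b, rfl⟩ := hx
    obtain ⟨a', ha', b', rfl⟩ := hz
    refine ⟨a * (y (D.simple i) b * a' * (y (D.simple i) b)⁻¹), mul_mem ha (norm b ha'), b + b', ?_⟩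
    rw [S.add _ b b' hp]; group
  | inv x _ hx =>
    obtain ⟨a, ha, b, rfl⟩ := hx
    refine ⟨y (D.simple i) (-b) * a⁻¹ * (y (D.simple i) (-b))⁻¹, norm _ (inv_mem ha), -b, ?_⟩
    rw [← S.y_inv hp]; group

theorem nE_conj_comp (i : Fin D.rank) (t : Kˣ) {a : E} (ha : a ∈ yGen D y (CompRoot D i)) :
    nE D y (D.simple i) (t : K) * a * (nE D y (D.simple i) (t : K))⁻¹ ∈ yGen D y (PosR D) := by
  obtain ⟨c, h, -⟩ := S.conj_nE i t
  induction ha using Subgroup.closure_induction with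
  | mem x hx =>
    obtain ⟨r, u, hr, hP, rfl⟩ := hx
    rw [h r u hr]
    exact mem_yGen (sig_lt S.checked i hr) (sig_pos S.checked i hr hP.1 hP.2).1 _
  | one => simp
  | mul x z _ _ hx hz =>
    rw [show ∀ n A B : E, n * (A * B) * n⁻¹ = (n * A * n⁻¹) * (n * B * n⁻¹) from fun _ _ _ => by group]
    exact mul_mem hx hz
  | inv x _ hx =>
    rw [show ∀ n A : E, n * A⁻¹ * n⁻¹ = (n * A * n⁻¹)⁻¹ from fun _ _ => by group]
    exact inv_mem hx

variable (gen : yGen D y (fun _ => True) = ⊤)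
include gen

theorem sup_eq_top : yGen D y (PosR D) ⊔ monGrp D y = ⊤ := by
  rw [eq_top_iff, ← gen, yGen, Subgroup.closure_le]
  rintro x ⟨r, t, hr, -, rfl⟩
  revert t
  refine root_induction S.checked (T := T) (P := fun r => ∀ t, y r t ∈ yGen D y (PosR D) ⊔ monGrp D y)
    (fun i t => Subgroup.mem_sup_left (mem_yGen (simple_lt S.checked i.2) (half_le_simple S.checked i.2) t))
    (fun i s hs hP t => ?_) hr
  obtain ⟨c, h, -⟩ := S.conj_nE i 1
  have h1 := h s ((((c s)⁻¹ : Kˣ) : K) * t) hs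
  rw [← mul_assoc, Units.mul_inv, one_mul] at h1
  rw [← h1]
  have hn := Subgroup.mem_sup_right (S := yGen D y (PosR D)) (S.nE_mem_monGrp i 1)
  exact mul_mem (mul_mem hn (hP _)) (inv_mem hn)

/-- every element is u n v -/
theorem bruhat (g : E) :
    ∃ u ∈ yGen D y (PosR D), ∃ n ∈ monGrp D y, ∃ v ∈ yGen D y (PosR D), g = u * n * v := by
  have key : ∀ x ∈ yGen D y (PosR D) ⊔ monGrp D y, ∀ g : E,
      (∃ u ∈ yGen D y (PosR D), ∃ n ∈ monGrp D y, ∃ v ∈ yGen D y (PosR D), g = u * n * v) →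
      ∃ u ∈ yGen D y (PosR D), ∃ n ∈ monGrp D y, ∃ v ∈ yGen D y (PosR D), x * g = u * n * v := by
    intro x hx
    have stepN : ∀ (i : Fin D.rank) (t : Kˣ), ∀ g : E,
        (∃ u ∈ yGen D y (PosR D), ∃ n ∈ monGrp D y, ∃ v ∈ yGen D y (PosR D), g = u * n * v) →
        ∃ u ∈ yGen D y (PosR D), ∃ n ∈ monGrp D y, ∃ v ∈ yGen D y (PosR D),
          nE D y (D.simple i) (t : K) * g = u * n * v := by
      rintro i t _ ⟨u, hu, n, hn, v, hv, rfl⟩
      set p := D.simple i
      have hp : p < D.nroots := simple_lt S.checked i.2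
      set w := nE D y p (t : K)
      obtain ⟨a, ha, b, rfl⟩ := S.pos_split i hu
      have hwa := S.nE_conj_comp i t ha
      have hwn : w * n ∈ monGrp D y := mul_mem (S.nE_mem_monGrp i t) hn
      obtain ⟨σ, c, hconj, hσ⟩ := S.monGrp_conj (inv_mem hn)
      have hq := (hσ p hp).1
      have hnx : ∀ z, n⁻¹ * y p z * n = y (σ p) ((c p : K) * z) := fun z => by
        rw [← hconj p z hp, inv_inv]
      by_cases hcase : PosR D (σ p) ∨ b = 0
      · refine ⟨w * a * w⁻¹, hwa, w * n, hwn, n⁻¹ * y p b * n * v, mul_mem ?_ hv, by show w * (a * y p b * n * v) = _; group⟩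
        rw [hnx]
        rcases hcase with h | rfl
        · exact mem_yGen hq h _
        · rw [mul_zero, S.y_zero hq]; exact one_mem _
      push Not at hcase
      obtain ⟨hqn, hb⟩ := hcase
      set β := -(b / (t : K) ^ 2) with hβ
      have hβ0 : β ≠ 0 := neg_ne_zero.2 (div_ne_zero hb (pow_ne_zero _ t.ne_zero))
      have h1 : w * y p b = y (D.neg p) β * w := mul_inv_eq_iff_eq_mul.1 (S.conj_pair i t b).1
      have h2 : y (D.neg p) β = y p β⁻¹ * nE D y p (-β⁻¹) * y p β⁻¹ := by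
        rw [nE, show -(-β⁻¹)⁻¹ = β by simp [inv_neg], ← S.y_inv hp]
        group
      have h3 : (w * n)⁻¹ * y p β⁻¹ * (w * n) ∈ yGen D y (PosR D) := by
        have e : w⁻¹ * y p β⁻¹ * w = y (D.neg p) (-(β⁻¹ / (t : K) ^ 2)) := by
          rw [show w⁻¹ = nE D y p ((-t : Kˣ) : K) by rw [Units.val_neg]; exact S.nE_inv hp _]
          have := (S.conj_pair i (-t) β⁻¹).1
          rw [S.nE_inv hp, Units.val_neg, neg_sq, neg_neg] at this
          rw [Units.val_neg]
          exact this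
        rw [show (w * n)⁻¹ * y p β⁻¹ * (w * n) = n⁻¹ * (w⁻¹ * y p β⁻¹ * w) * n by group, e,
          show ∀ z, n⁻¹ * y (D.neg p) z * n = y (σ (D.neg p)) ((c (D.neg p) : K) * z) from fun z => by
            rw [← hconj _ z (neg_lt S.checked hp), inv_inv], (hσ p hp).2]
        refine mem_yGen (neg_lt S.checked hq) ?_ _
        have := neg_eq S.checked hq; have := nroots_eq_two_mul S.checked
        simp only [PosR] at hqn ⊢
        omega
      refine ⟨w * a * w⁻¹ * y p β⁻¹, mul_mem hwa (mem_yGen hp (half_le_simple S.checked i.2) _),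
        nE D y p (-β⁻¹) * (w * n), mul_mem ?_ hwn, (w * n)⁻¹ * y p β⁻¹ * (w * n) * v, mul_mem h3 hv, ?_⟩
      · rw [show (-β⁻¹ : K) = ((Units.mk0 (-β⁻¹) (neg_ne_zero.2 (inv_ne_zero hβ0)) : Kˣ) : K) from rfl]
        exact S.nE_mem_monGrp i _
      · calc w * (a * y p b * n * v) = w * a * w⁻¹ * (w * y p b) * n * v := by group
          _ = w * a * w⁻¹ * (y p β⁻¹ * nE D y p (-β⁻¹) * y p β⁻¹ * w) * n * v := by rw [h1, h2]
          _ = _ := by group
    rw [yGen, monGrp, ← Subgroup.closure_union] at hx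
    induction hx using Subgroup.closure_induction'' with
    | mem z hz =>
      rcases hz with ⟨r, t, hr, hP, rfl⟩ | ⟨i, t, rfl⟩
      · rintro _ ⟨u, hu, n, hn, v, hv, rfl⟩
        exact ⟨y r t * u, mul_mem (mem_yGen hr hP t) hu, n, hn, v, hv, by group⟩
      · exact stepN i t
    | inv_mem z hz =>
      rcases hz with ⟨r, t, hr, hP, rfl⟩ | ⟨i, t, rfl⟩
      · rintro _ ⟨u, hu, n, hn, v, hv, rfl⟩
        exact ⟨(y r t)⁻¹ * u, mul_mem (inv_mem (mem_yGen hr hP t)) hu, n, hn, v, hv, by group⟩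
      · rw [S.nE_inv (simple_lt S.checked i.2), ← Units.val_neg]
        exact stepN i (-t)
    | one => intro g hg; rwa [one_mul]
    | mul a b _ _ ha hb => intro g hg; rw [mul_assoc]; exact ha _ (hb _ hg)
  have := key g (by rw [S.sup_eq_top gen]; exact Subgroup.mem_top g) 1
    ⟨1, one_mem _, 1, one_mem _, 1, one_mem _, by group⟩
  rwa [mul_one] at this

theorem monGrp_ker_central {n : E} (hn : n ∈ monGrp D y) (h1 : φ n = 1) : n ∈ Subgroup.center E := by
  obtain ⟨σ, c, h, hσ⟩ := S.monGrp_conj hn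
  refine mem_center_of_conj gen fun r t hr => ?_
  have key : ∀ u : K, elX D K r u = elX D K (σ r) ((c r : K) * u) := fun u => by
    have := congrArg φ (h r u hr)
    rwa [map_mul, map_mul, map_inv, h1, one_mul, inv_one, mul_one, S.proj r u hr, S.proj _ _ (hσ r hr).1] at this
  have e : r = σ r := elX_root_unique S.checked hr (hσ r hr).1 one_ne_zero (key 1)
  have hc : (c r : K) = 1 := by
    have k := key 1
    rw [← e, mul_one, ← mul_inv_eq_one, elX_inv S.checked K hr, elX_add S.checked K hr,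
      elX_eq_one_iff S.checked hr] at k
    linear_combination -k
  rw [h r t hr, ← e, hc, one_mul]

/-- the kernel of the projection lies in N -/
theorem ker_le {g : E} (hg : φ g = 1) : g ∈ monGrp D y ∧ g ∈ Subgroup.center E := by
  obtain ⟨u, hu, n, hn, v, hv, rfl⟩ := S.bruhat gen g
  have hn1 : φ n = 1 := by
    refine mem_monomial_pos_diag S.checked ?_ (S.proj_monGrp hn)
    rw [map_mul, map_mul] at hg
    rw [show φ n = (φ u)⁻¹ * (φ v)⁻¹ by
      calc φ n = (φ u)⁻¹ * (φ u * φ n * φ v) * (φ v)⁻¹ := by group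
        _ = _ := by rw [hg, mul_one]]
    exact mul_mem (inv_mem (S.map_yGen hu)) (inv_mem (S.map_yGen hv))
  have hz := S.monGrp_ker_central gen hn hn1
  have huv : u * v = 1 := by
    refine S.inj (P := PosR D) (fun r s w hr hs h1 h2 hw => (closedPos_pos S.checked).2 r s w hr hs h1 h2 hw)
      (keyHom D) (fun r hr hr' => (key_pos_iff S.checked hr).2 hr') (mul_mem hu hv) ?_
    rw [map_mul, map_mul, hn1, mul_one] at hg
    rw [map_mul, hg]
  have e : u * n * v = n := by
    rw [Subgroup.mem_center_iff.1 hz u, mul_assoc, huv, mul_one]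
  rw [e]
  exact ⟨hn, hz⟩

end Sys

end CfsgLib.Steinberg
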