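import Cfsg.Agent.Lib.Steinberg.Present
import Cfsg.Agent.Lib.Steinberg.Bruhat

/-!
The presented groups as central extensions of the Chevalley group.
-/

set_option autoImplicit false
set_option linter.unusedSectionVars false

namespace CfsgLib.Steinberg

open Cfsg.Lie CfsgLib.Chev

variable {D : ChevalleyDatum} {T : Tabs} {K : Type*} [Field K] {E : Type*} [Group E]

namespace Sys

variable {y : ℕ → K → E} {φ : E →* GL D.Idx K} (S : Sys D T y φ) (gen : yGen D y (fun _ => True) = ⊤)
include S gen

theorem proj_mem (g : E) : φ g ∈ D.group K := by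
  rw [group_eq S.checked]
  exact S.map_yGen (gen ▸ Subgroup.mem_top g)

theorem range_eq : φ.range = D.group K := by
  refine le_antisymm ?_ ?_
  · rintro _ ⟨g, rfl⟩
    exact S.proj_mem gen g
  · rw [group_eq S.checked, uGen_le_iff]
    exact fun r hr _ t => ⟨y r t, S.proj r t hr⟩

/-- the projection onto the Chevalley group is a central extension -/
theorem exists_toGroup :
    ∃ θ : E →* ↥(D.group K), Function.Surjective θ ∧ θ.ker ≤ Subgroup.center E ∧
      (∀ g, ((θ g : ↥(D.group K)) : GL D.Idx K) = φ g) := by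
  refine ⟨φ.codRestrict (D.group K) (S.proj_mem gen), ?_, ?_, fun g => rfl⟩
  · rintro ⟨x, hx⟩
    rw [← S.range_eq gen] at hx
    obtain ⟨g, rfl⟩ := hx
    exact ⟨g, rfl⟩
  · intro g hg
    exact (S.ker_le gen (congrArg Subtype.val hg)).2

end Sys

theorem cover_extension (S : Setup D T) :
    ∃ θ : D.SteinbergCover K →* ↥(D.group K), Function.Surjective θ ∧
      θ.ker ≤ Subgroup.center (D.SteinbergCover K) ∧
      ∀ (r : ℕ) (t : K), r < D.nroots →
        ((θ (D.scGen K r t) : GL D.Idx K) : Matrix D.Idx D.Idx K) = D.x K r t := by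
  obtain ⟨θ, h1, h2, h3⟩ := (coverSys K S).exists_toGroup (cover_top K)
  exact ⟨θ, h1, h2, fun r t hr => by rw [h3, coverHom_scGen K S hr, coe_elX S.checked K hr]⟩

end CfsgLib.Steinberg
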