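import Cfsg.Agent.Lib.Steinberg.Kernel
import Cfsg.Agent.Lib.Steinberg.Cover

/-!
The kernel of the pairing map of the tabulated data.
-/

set_option autoImplicit false
set_option linter.unusedSectionVars false

namespace CfsgLib.Steinberg

open Cfsg.Lie CfsgLib.Chev

/-- `A B + e w = 1` and the coroots of weight `w` act trivially modulo `d` -/
structure CenterData where
  d : ℕ
  i0 : ℕ
  v : List ℤ
  w : List ℤ
  B : List (List ℤ)

/-- the entries of a row -/
def CenterData.bEntry (C : CenterData) (j k : ℕ) : ℤ := (C.B.getD j []).getD k 0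

/-- the conditions on the data -/
def CenterOk (D : ChevalleyDatum) (C : CenterData) : Prop :=
  C.i0 < D.rank ∧
    (∀ i, i < D.rank → ∀ k, k < D.rank →
      ((List.range D.rank).map fun j => D.cartan i (D.simple j) * C.bEntry j k).sum +
        (if i = C.i0 then C.w.getD k 0 else 0) = if i = k then 1 else 0) ∧
    (∀ i, i < D.rank →
      ((List.range D.rank).map fun j => D.cartan i (D.simple j) * C.v.getD j 0).sum =
        if i = C.i0 then (C.d : ℤ) else 0) ∧
    (∀ j, j < D.rank →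
      (C.d : ℤ) ∣ ((List.range D.rank).map fun i => C.w.getD i 0 * D.cartan i (D.simple j)).sum)

instance instDecidableCenterOk (D : ChevalleyDatum) (C : CenterData) : Decidable (CenterOk D C) :=
  inferInstanceAs (Decidable (_ ∧ _))

def centerG2 : CenterData := ⟨1, 0, [2, 1], [0, 0], [[2, 3], [1, 2]]⟩
def centerF4 : CenterData :=
  ⟨1, 0, [2, 3, 2, 1], [0, 0, 0, 0], [[2, 3, 4, 2], [3, 6, 8, 4], [2, 4, 6, 3], [1, 2, 3, 2]]⟩
def centerE6 : CenterData :=
  ⟨3, 0, [4, 3, 5, 6, 4, 2], [1, 0, 2, 0, 1, 2],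
    [[0, 1, -1, 2, 0, -2], [0, 2, 0, 3, 1, -1], [0, 2, 0, 4, 1, -2], [0, 3, 0, 6, 2, -2], [0, 2, 0, 4, 2, -1],
      [0, 1, 0, 2, 1, 0]]⟩
def centerE7 : CenterData :=
  ⟨2, 1, [4, 7, 8, 12, 9, 6, 3], [0, 1, 0, 0, 1, 0, 1],
    [[2, 0, 3, 4, 1, 2, -1], [2, 0, 4, 6, 1, 3, -2], [3, 0, 6, 8, 2, 4, -2], [4, 0, 8, 12, 3, 6, -3],
      [3, 0, 6, 9, 3, 5, -2], [2, 0, 4, 6, 2, 4, -1], [1, 0, 2, 3, 1, 2, 0]]⟩
def centerE8 : CenterData :=
  ⟨1, 0, [4, 5, 7, 10, 8, 6, 4, 2], [0, 0, 0, 0, 0, 0, 0, 0],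
    [[4, 5, 7, 10, 8, 6, 4, 2], [5, 8, 10, 15, 12, 9, 6, 3], [7, 10, 14, 20, 16, 12, 8, 4],
      [10, 15, 20, 30, 24, 18, 12, 6], [8, 12, 16, 24, 20, 15, 10, 5], [6, 9, 12, 18, 15, 12, 8, 4],
      [4, 6, 8, 12, 10, 8, 6, 3], [2, 3, 4, 6, 5, 4, 3, 2]]⟩

theorem centerOkG2 : CenterOk chevG2 centerG2 := by decide +kernel
theorem centerOkF4 : CenterOk chevF4 centerF4 := by decide +kernel
theorem centerOkE6 : CenterOk chevE6 centerE6 := by decide +kernel
theorem centerOkE7 : CenterOk chevE7 centerE7 := by decide +kernel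
theorem centerOkE8 : CenterOk chevE8 centerE8 := by decide +kernel

variable {D : ChevalleyDatum} {T : Tabs} {K : Type*} [Field K]

theorem list_range_sum {M : Type*} [AddCommMonoid M] (n : ℕ) (f : ℕ → M) :
    ((List.range n).map f).sum = ∑ j : Fin n, f j := by
  rw [Fin.sum_univ_eq_sum_range]
  induction n with
  | zero => simp
  | succ n ih => simp [List.range_succ, Finset.sum_range_succ, ih]

theorem hPar_apply (c : Fin D.rank → Kˣ) (j : Fin D.rank) : hPar D K c j = ∏ i, c i ^ cm D i j := rfl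

theorem prod_zpow_hPar (c : Fin D.rank → Kˣ) (b : Fin D.rank → ℤ) :
    ∏ j, hPar D K c j ^ b j = ∏ i, c i ^ ∑ j, cm D i j * b j := by
  simp only [hPar_apply, ← Finset.prod_zpow, ← zpow_mul]
  rw [Finset.prod_comm]
  exact Finset.prod_congr rfl fun i _ => prod_zpow_sum _ _ _

variable {C : CenterData} (hC : CenterOk D C)
include hC

/-- the kernel is parametrised by the roots of unity of order `d` -/
theorem ker_hPar {c : Fin D.rank → Kˣ} (hc : hPar D K c = 1) :
    ∃ z : Kˣ, z ^ C.d = 1 ∧ c = fun k => z ^ C.w.getD k.val 0 := by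
  obtain ⟨hi, hB, hv, -⟩ := hC
  set i0 : Fin D.rank := ⟨C.i0, hi⟩
  have h1 : ∀ b : Fin D.rank → ℤ, ∏ i, c i ^ ∑ j, cm D i j * b j = 1 := fun b => by
    rw [← prod_zpow_hPar, hc]; simp
  refine ⟨c i0, ?_, funext fun k => ?_⟩
  · have h := h1 fun j => C.v.getD j.val 0
    rw [Finset.prod_eq_single i0] at h
    · have e := hv i0.val i0.2
      rw [list_range_sum, if_pos rfl] at e
      rw [show (∑ j, cm D i0 j * C.v.getD j.val 0) = (C.d : ℤ) from e, zpow_natCast] at h
      exact h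
    · intro i _ hne
      have e := hv i.val i.2
      rw [list_range_sum, if_neg (fun e => hne (Fin.ext e))] at e
      rw [show (∑ j, cm D i j * C.v.getD j.val 0) = 0 from e, zpow_zero]
    · simp
  · have h := h1 fun j => C.bEntry j.val k.val
    have e : ∀ i : Fin D.rank, ∑ j, cm D i j * C.bEntry j.val k.val =
        (if i = k then 1 else 0) - if i = i0 then C.w.getD k.val 0 else 0 := fun i => by
      have e := hB i.val i.2 k.val k.2
      rw [list_range_sum] at e
      simp only [Fin.val_inj] at e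
      have : (if i.val = C.i0 then C.w.getD k.val 0 else 0) = if i = i0 then C.w.getD k.val 0 else 0 :=
        if_congr ⟨fun h => Fin.ext h, fun h => congrArg Fin.val h⟩ rfl rfl
      rw [← this]
      exact eq_sub_of_add_eq e
    simp only [e, zpow_sub, Finset.prod_mul_distrib, Finset.prod_inv_distrib] at h
    rw [Finset.prod_eq_single k (fun i _ hne => by rw [if_neg hne, zpow_zero]) (by simp), if_pos rfl, zpow_one,
      Finset.prod_eq_single i0 (fun i _ hne => by rw [if_neg hne, zpow_zero]) (by simp), if_pos rfl,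
      mul_inv_eq_one] at h
    exact h

theorem hPar_rootOfUnity {z : Kˣ} (hz : z ^ C.d = 1) :
    hPar D K (fun k => z ^ C.w.getD k.val 0) = 1 := by
  funext j
  rw [hPar_apply, Pi.one_apply]
  simp only [← zpow_mul, prod_zpow_sum]
  obtain ⟨m, hm⟩ := hC.2.2.2 j.val j.2
  rw [list_range_sum] at hm
  rw [show (∑ i : Fin D.rank, C.w.getD i.val 0 * cm D i j) = (C.d : ℤ) * m from hm, zpow_mul, zpow_natCast, hz, one_zpow]

end CfsgLib.Steinberg
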