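import Cfsg.Prelude.Def_ChevStructure
import Cfsg.Prelude.Def_ChevE6
import Cfsg.Prelude.Def_ChevE7
import Cfsg.Prelude.Def_ChevE8

/-!
Data whose chains all have length one: the commutator formula read off the chain table directly.
-/

set_option autoImplicit false

namespace CfsgLib.Steinberg

open Cfsg.Lie

/-- all chains have length one and coefficient ±1 -/
def ShortChains (D : ChevalleyDatum) : Prop := ∀ row ∈ D.chain.toList, ∀ e ∈ row.toList,
  e.2.toList.length ≤ 1 ∧ ∀ q ∈ e.2.toList, q.2 ∈ [(1 : ℤ), -1]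

instance instDecidableShortChains (D : ChevalleyDatum) : Decidable (ShortChains D) :=
  inferInstanceAs (Decidable (∀ row ∈ D.chain.toList, _))

theorem shortE6 : ShortChains chevE6 := by decide +kernel
theorem shortE7 : ShortChains chevE7 := by decide +kernel
theorem shortE8 : ShortChains chevE8 := by decide +kernel

/-- a formula with the single term `v` and coefficient ±1 -/
def Single (D : ChevalleyDatum) (r s v : ℕ) : Prop :=
  r < D.nroots ∧ s < D.nroots ∧ s ≠ r ∧ ∃ C ∈ [(1 : ℤ), -1], D.chainEntry r s = [(v, C)]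

instance instDecidableSingle (D : ChevalleyDatum) (r s v : ℕ) : Decidable (Single D r s v) :=
  inferInstanceAs (Decidable (_ ∧ _))

/-- the empty formula -/
def Nil (D : ChevalleyDatum) (r s : ℕ) : Prop :=
  r < D.nroots ∧ s < D.nroots ∧ (s = r ∨ (r + s + 1 ≠ D.nroots ∧ D.chainEntry r s = []))

instance instDecidableNil (D : ChevalleyDatum) (r s : ℕ) : Decidable (Nil D r s) :=
  inferInstanceAs (Decidable (_ ∧ _))

variable {D : ChevalleyDatum}

theorem chainEntry_short (hd : ShortChains D) (a b : ℕ) :
    (D.chainEntry a b).length ≤ 1 ∧ ∀ q ∈ D.chainEntry a b, q.2 ∈ [(1 : ℤ), -1] := by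
  rw [ChevalleyDatum.chainEntry]
  cases h : (D.chain.getD a #[]).toList.find? (fun e => e.1 = b) with
  | none => simp
  | some e =>
    have he := List.mem_of_find?_eq_some h
    by_cases ha : a < D.chain.size
    · refine hd _ ?_ e he
      rw [Array.getD_eq_getD_getElem?, Array.getElem?_eq_getElem ha, Option.getD_some]
      exact Array.mem_toList_iff.2 (Array.getElem_mem _)
    · rw [Array.getD_eq_getD_getElem?, Array.getElem?_eq_none (by omega)] at he
      simp at he

theorem commTerms_eq_chainEntry (hd : ShortChains D) (r s : ℕ) :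
    D.commTerms r s = (D.chainEntry r s).map fun q => (q.1, q.2, 1, 1) := by
  have none_ge : ∀ a b k, 2 ≤ k → D.chainRoot a b k = none := fun a b k hk => by
    have := (chainEntry_short hd a b).1
    rw [ChevalleyDatum.chainRoot, List.getElem?_eq_none (by omega)]
    rfl
  have hl := (chainEntry_short hd r s).1
  simp only [ChevalleyDatum.commTerms, none_ge _ _ 2 le_rfl, none_ge _ _ 3 (by omega), Option.bind_none]
  rcases h : D.chainEntry r s with _ | ⟨q, _ | ⟨q', l⟩⟩
  · simp [ChevalleyDatum.chainRoot, h]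
  · simp [ChevalleyDatum.chainRoot, ChevalleyDatum.chainM, h]
  · rw [h] at hl; simp at hl

theorem Single.commTerms (hd : ShortChains D) {r s v : ℕ} (h : Single D r s v) :
    ∃ C ∈ [(1 : ℤ), -1], D.commTerms r s = [(v, C, 1, 1)] := by
  obtain ⟨-, -, -, C, hC, e⟩ := h
  exact ⟨C, hC, by rw [commTerms_eq_chainEntry hd, e]; rfl⟩

theorem commTerms_nil_iff (hd : ShortChains D) (r s : ℕ) : D.commTerms r s = [] ↔ D.chainEntry r s = [] := by
  rw [commTerms_eq_chainEntry hd, List.map_eq_nil_iff]

theorem commTerms_short (hd : ShortChains D) (r s : ℕ) :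
    D.commTerms r s = [] ∨ ∃ v, ∃ C ∈ [(1 : ℤ), -1], D.commTerms r s = [(v, C, 1, 1)] := by
  have hl := chainEntry_short hd r s
  rcases h : D.chainEntry r s with _ | ⟨q, _ | ⟨q', l⟩⟩
  · exact Or.inl ((commTerms_nil_iff hd r s).2 h)
  · exact Or.inr ⟨q.1, q.2, hl.2 q (by rw [h]; simp), by rw [commTerms_eq_chainEntry hd, h]; rfl⟩
  · rw [h] at hl; simp at hl

end CfsgLib.Steinberg
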