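import Cfsg.Agent.Lib.Steinberg.Sys

/-!
Conjugation by n_p(t) and h_p(t) in a system of root elements, transported from the matrix group.
-/

set_option autoImplicit false
set_option linter.unusedSectionVars false

namespace CfsgLib.Steinberg

open Cfsg.Lie CfsgLib.Chev

variable {D : ChevalleyDatum} {T : Tabs} {K : Type*} [Field K] {E : Type*} [Group E]

/-- `g` maps root subgroups to root subgroups along `σ` with scalars `c` -/
def Conj (D : ChevalleyDatum) (y : ℕ → K → E) (g : E) (σ : ℕ → ℕ) (c : ℕ → Kˣ) : Prop :=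
  ∀ r t, r < D.nroots → g * y r t * g⁻¹ = y (σ r) ((c r : K) * t)

theorem Conj.comp {y : ℕ → K → E} {g h : E} {σ τ : ℕ → ℕ} {c d : ℕ → Kˣ} (hg : Conj D y g σ c)
    (hτ : ∀ r, r < D.nroots → τ r < D.nroots) (hh : Conj D y h τ d) :
    Conj D y (g * h) (fun r => σ (τ r)) (fun r => c (τ r) * d r) := fun r t hr => by
  rw [show g * h * y r t * (g * h)⁻¹ = g * (h * y r t * h⁻¹) * g⁻¹ by group, hh r t hr, hg _ _ (hτ r hr),
    Units.val_mul, mul_assoc]

theorem Conj.one {y : ℕ → K → E} : Conj D y 1 (fun r => r) (fun _ => 1) := fun r t _ => by simp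

theorem Conj.mono {y : ℕ → K → E} {g : E} {σ τ : ℕ → ℕ} {c d : ℕ → Kˣ} (hg : Conj D y g σ c)
    (hσ : ∀ r, r < D.nroots → σ r = τ r) (hc : ∀ r, r < D.nroots → c r = d r) : Conj D y g τ d :=
  fun r t hr => by rw [hg r t hr, hσ r hr, hc r hr]

theorem Conj.inv {y : ℕ → K → E} {g : E} {σ τ : ℕ → ℕ} {c : ℕ → Kˣ} (hg : Conj D y g σ c)
    (hτ : ∀ r, r < D.nroots → τ r < D.nroots ∧ σ (τ r) = r) :
    Conj D y g⁻¹ τ (fun r => (c (τ r))⁻¹) := fun r t hr => by
  have h := hg (τ r) ((((c (τ r))⁻¹ : Kˣ) : K) * t) (hτ r hr).1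
  rw [(hτ r hr).2, ← mul_assoc, Units.mul_inv, one_mul] at h
  rw [← h]; group

/-- an element of the subgroup generated by the root subgroups of `p` and `-p` -/
def pairGrp (D : ChevalleyDatum) (y : ℕ → K → E) (p : ℕ) : Subgroup E :=
  yGen D y (fun r => r = p ∨ r = D.neg p)

/-- n_r(t) in E -/
def nE (D : ChevalleyDatum) (y : ℕ → K → E) (r : ℕ) (t : K) : E := y r t * y (D.neg r) (-t⁻¹) * y r t

/-- h_r(t) in E -/
def hE (D : ChevalleyDatum) (y : ℕ → K → E) (r : ℕ) (t : K) : E := nE D y r t * nE D y r (-1)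

namespace Sys

variable {y : ℕ → K → E} {φ : E →* GL D.Idx K} (S : Sys D T y φ)
include S

/-- the group of a strip is normalised by the pair group -/
theorem pair_normalises {p s : ℕ} (hp : p < D.nroots) {f : (Fin D.rank → ℤ) →+ ℤ}
    (hfp : f (rv D T p) = 0) (hfs : 0 < f (rv D T s)) {g : E} (hg : g ∈ pairGrp D y p) {x : E}
    (hx : x ∈ yGen D y (Strip D T p s)) :
    g * x * g⁻¹ ∈ yGen D y (Strip D T p s) := by
  have pos : ∀ v, Strip D T p s v → 0 < f (rv D T v) := by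
    rintro v ⟨-, i, j, hj, e⟩
    rw [e, map_add, hom_smul, hom_smul, hfp]
    have : (1 : ℤ) ≤ (j : ℤ) := by exact_mod_cast hj
    nlinarith
  have hq : ∀ q, (q = p ∨ q = D.neg p) → f (rv D T q) = 0 ∧ q < D.nroots ∧
      ∀ v, v < D.nroots → ∀ w, Strip D T p s v → CombRoot D T q v w → Strip D T p s w := by
    intro q hq
    obtain ⟨ε, hε⟩ : ∃ ε : ℤ, rv D T q = ε • rv D T p := by
      rcases hq with rfl | rfl
      · exact ⟨1, (one_smul _ _).symm⟩
      · exact ⟨-1, by rw [rv_neg S.checked hp, neg_one_smul]⟩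
    refine ⟨by rw [hε, hom_smul, hfp, mul_zero], ?_, ?_⟩
    · rcases hq with rfl | rfl
      · exact hp
      · exact neg_lt S.checked hp
    · rintro v - w ⟨-, i, j, hj, e⟩ ⟨hw, k, l, hk, hl, hkl⟩
      refine ⟨hw, k * ε + l * i, l * j, by positivity, ?_⟩
      rw [hkl, hε, e]
      push_cast
      module
  induction hg using Subgroup.closure_induction'' generalizing x with
  | mem z hz =>
    obtain ⟨q, t, hqn, hqp, rfl⟩ := hz
    refine S.conj_mem hqn (fun v hv hS _ => ⟨fun e => ?_, fun w hw => (hq q hqp).2.2 v hv w hS hw⟩) t hx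
    have := pos v hS
    rw [e, rv_neg S.checked hqn, map_neg, (hq q hqp).1] at this
    omega
  | inv_mem z hz =>
    obtain ⟨q, t, hqn, hqp, rfl⟩ := hz
    rw [S.y_inv hqn]
    refine S.conj_mem hqn (fun v hv hS _ => ⟨fun e => ?_, fun w hw => (hq q hqp).2.2 v hv w hS hw⟩) (-t) hx
    have := pos v hS
    rw [e, rv_neg S.checked hqn, map_neg, (hq q hqp).1] at this
    omega
  | one => simpa using hx
  | mul a b _ _ ha hb =>
    rw [show a * b * x * (a * b)⁻¹ = a * (b * x * b⁻¹) * a⁻¹ by group]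
    exact ha (hb hx)

/-- a monomial identity in the matrix group lifts: roots other than `±p` -/
theorem conj_lift_off {p : ℕ} (hp : p < D.nroots) {g : E} (hg : g ∈ pairGrp D y p) {s : ℕ} (hs : s < D.nroots)
    (h1 : s ≠ p) (h2 : s ≠ D.neg p) {s' : ℕ} (hs' : s' < D.nroots) {i : ℤ}
    (hrv : rv D T s' = rv D T s + i • rv D T p) {t u : K}
    (heq : φ g * elX D K s t * (φ g)⁻¹ = elX D K s' u) : g * y s t * g⁻¹ = y s' u := by
  obtain ⟨f, hfp, hfs⟩ := exists_functional S.checked hp hs h1 h2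
  refine S.eq_of_proj (closedSet_strip p s) f ?_
    (S.pair_normalises hp hfp hfs hg (mem_yGen hs ⟨hs, 0, 1, one_pos, by simp⟩ t))
    (mem_yGen hs' ⟨hs', i, 1, one_pos, by rw [hrv]; simp [add_comm]⟩ u) ?_
  · rintro v - ⟨-, k, j, hj, e⟩
    rw [e, map_add, hom_smul, hom_smul, hfp]
    have : (1 : ℤ) ≤ (j : ℤ) := by exact_mod_cast hj
    nlinarith
  · rw [map_mul, map_mul, map_inv, S.proj s t hs, S.proj s' u hs', heq]

/-- a monomial identity in the matrix group lifts to E -/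
theorem conj_lift {p : ℕ} (hp : p < D.nroots) {g : E} (hg : g ∈ pairGrp D y p) {σ : ℕ → ℕ} {c : ℕ → Kˣ}
    (hσ : ∀ r, r < D.nroots → σ r < D.nroots)
    (w : (Fin D.rank → ℤ) ≃+ (Fin D.rank → ℤ)) (hw : ∀ r, r < D.nroots → rv D T (σ r) = w (rv D T r))
    (hwp : ∀ r, r < D.nroots → ∃ i : ℤ, rv D T (σ r) = rv D T r + i • rv D T p)
    (heq : ∀ r t, r < D.nroots → φ g * elX D K r t * (φ g)⁻¹ = elX D K (σ r) ((c r : K) * t)) :
    Conj D y g σ c := by
  have off : ∀ s, s < D.nroots → s ≠ p → s ≠ D.neg p → ∀ t, g * y s t * g⁻¹ = y (σ s) ((c s : K) * t) :=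
    fun s hs h1 h2 t => by
      obtain ⟨i, hi⟩ := hwp s hs
      exact S.conj_lift_off hp hg hs h1 h2 (hσ s hs) hi (heq s t hs)
  intro q v hq
  by_cases hqp : q = p ∨ q = D.neg p
  swap
  · push Not at hqp
    exact off q hq hqp.1 hqp.2 v
  obtain ⟨a, b, ha, hb, hab, hab', C, hC, ij, hij, hfil⟩ := S.wit q hq
  simp only at ha hb hab hab' hfil
  have hterm := commTerms_weight S.checked ha hb
  have hqmem : (q, C, ij.1, ij.2) ∈ D.commTerms a b := by
    have : (q, C, ij.1, ij.2) ∈ (D.commTerms a b).filter (fun x => x.1 == q) := by rw [hfil]; simp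
    exact (List.mem_filter.1 this).1
  obtain ⟨-, hi0, hj0, hqrv⟩ := hterm _ hqmem
  simp only at hi0 hj0 hqrv
  -- independence
  have indep : ∀ m n : ℤ, m • rv D T a + n • rv D T b = 0 → m = 0 ∧ n = 0 := by
    intro m n h
    by_cases hn : n = 0
    · subst hn
      rw [zero_smul, add_zero, smul_eq_zero] at h
      exact ⟨h.resolve_right (rv_ne_zero S.checked ha), rfl⟩
    · rcases eq_or_eq_neg_of_prop S.checked ha b hb m n hn h with e | e
      · exact absurd e hab
      · exact absurd e hab'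
  have notpm : ∀ r, r < D.nroots → ∀ (k l : ℤ), rv D T r = k • rv D T a + l • rv D T b →
      (r = p ∨ r = D.neg p) → (k = ij.1 ∧ l = ij.2) ∨ (k = -(ij.1 : ℤ) ∧ l = -(ij.2 : ℤ)) := by
    intro r hr k l e hrp
    have : r = q ∨ r = D.neg q := by
      rcases hqp with rfl | rfl
      · exact hrp
      · rcases hrp with rfl | rfl
        · exact Or.inr (neg_neg_root S.checked hp).symm
        · exact Or.inl rfl
    rcases this with rfl | rfl
    · left
      obtain ⟨h1, h2⟩ := indep (k - ij.1) (l - ij.2) (by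
        rw [sub_smul, sub_smul, sub_add_sub_comm, ← e, ← hqrv, sub_self])
      exact ⟨sub_eq_zero.1 h1, sub_eq_zero.1 h2⟩
    · right
      rw [rv_neg S.checked hq, hqrv] at e
      obtain ⟨h1, h2⟩ := indep (k + ij.1) (l + ij.2) (by
        rw [add_smul, add_smul, add_add_add_comm, ← e, neg_add_cancel])
      exact ⟨by linarith, by linarith⟩
  have hapm : a ≠ p ∧ a ≠ D.neg p := by
    constructor <;> intro e <;>
      rcases notpm a ha 1 0 (by simp) (by simp [e]) with ⟨-, h⟩ | ⟨-, h⟩ <;> omega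
  have hbpm : b ≠ p ∧ b ≠ D.neg p := by
    constructor <;> intro e <;>
      rcases notpm b hb 0 1 (by simp) (by simp [e]) with ⟨h, -⟩ | ⟨h, -⟩ <;> omega
  -- choose parameters
  obtain ⟨t, u, hCtu⟩ : ∃ t u : K, (C : K) * (-t) ^ ij.1 * u ^ ij.2 = v := by
    have hC2 : (C : K) * (C : K) = 1 := by
      simp only [List.mem_cons, List.not_mem_nil, or_false] at hC
      rcases hC with rfl | rfl <;> simp
    simp only [List.mem_cons, List.not_mem_nil, or_false] at hij
    rcases hij with rfl | rfl | rfl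
    · exact ⟨-1, (C : K) * v, by rw [neg_neg, one_pow, mul_one, pow_one, ← mul_assoc, hC2, one_mul]⟩
    · exact ⟨-1, (C : K) * v, by rw [neg_neg, one_pow, mul_one, pow_one, ← mul_assoc, hC2, one_mul]⟩
    · exact ⟨-((C : K) * v), 1, by rw [neg_neg, one_pow, mul_one, pow_one, ← mul_assoc, hC2, one_mul]⟩
  obtain ⟨L1, L2, hsplit, hL1, hL2⟩ : ∃ L1 L2, D.commTerms a b = L1 ++ (q, C, ij.1, ij.2) :: L2 ∧
      (∀ x ∈ L1, x.1 ≠ q) ∧ ∀ x ∈ L2, x.1 ≠ q := by
    obtain ⟨L1, L2, h1, h2, -, h4⟩ := List.filter_eq_cons_iff.1 hfil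
    refine ⟨L1, L2, h1, fun x hx => by simpa using h2 x hx, fun x hx e => ?_⟩
    have : x ∈ L2.filter (fun x => x.1 == q) := List.mem_filter.2 ⟨hx, by simp [e]⟩
    rw [h4] at this
    simp at this
  have hσab : σ b ≠ σ a ∧ σ b ≠ D.neg (σ a) := by
    constructor <;> intro e <;> have := congrArg (rv D T) e
    · rw [hw b hb, hw a ha, w.injective.eq_iff] at this
      exact hab (rv_inj S.checked hb ha this)
    · rw [rv_neg S.checked (hσ a ha), hw b hb, hw a ha, ← map_neg, w.injective.eq_iff,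
        ← rv_neg S.checked ha] at this
      exact hab' (rv_inj S.checked hb (neg_lt S.checked ha) this)
  obtain ⟨f, hfa, hfb⟩ := exists_functional_pos S.checked (hσ a ha) (hσ b hb) hσab.1 hσab.2
  set Q := CombRoot D T (σ a) (σ b) with hQ
  have hQpos : ∀ r, r < D.nroots → Q r → 0 < f (rv D T r) := by
    rintro r - ⟨-, i, j, hi, hj, e⟩
    rw [e, map_add, hom_smul, hom_smul]
    have : (1 : ℤ) ≤ (i : ℤ) := by exact_mod_cast hi
    have : (1 : ℤ) ≤ (j : ℤ) := by exact_mod_cast hj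
    nlinarith
  have hσQ : ∀ x ∈ D.commTerms a b, Q (σ x.1) := fun x hx => by
    obtain ⟨h1, h2, h3, h4⟩ := hterm x hx
    refine ⟨hσ _ h1, x.2.2.1, x.2.2.2, h2, h3, ?_⟩
    rw [hw _ h1, hw a ha, hw b hb, h4, map_add, map_zsmul, map_zsmul]
  have offmem : ∀ x ∈ D.commTerms a b, x.1 ≠ q → ∀ z, g * y x.1 z * g⁻¹ ∈ yGen D y Q := fun x hx hxq z => by
    obtain ⟨h1, h2, h3, h4⟩ := hterm x hx
    have hne : ¬ (x.1 = p ∨ x.1 = D.neg p) := fun e => by
      rcases notpm x.1 h1 _ _ h4 e with ⟨e1, e2⟩ | ⟨e1, e2⟩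
      · exact hxq (rv_inj S.checked h1 hq (by rw [h4, hqrv, e1, e2]))
      · omega
    push Not at hne
    rw [off x.1 h1 hne.1 hne.2]
    exact mem_yGen (hσ _ h1) (hσQ x hx) _
  have lmem : ∀ L : List (ℕ × ℤ × ℕ × ℕ), (∀ x ∈ L, x ∈ D.commTerms a b ∧ x.1 ≠ q) →
      g * wordE y (L.map fun x => (x.1, (x.2.1 : K) * (-t) ^ x.2.2.1 * u ^ x.2.2.2)) * g⁻¹ ∈ yGen D y Q := by
    intro L
    induction L with
    | nil => intro _; simp [wordE]
    | cons x L ih =>
      intro hL
      rw [List.map_cons, wordE, List.map_cons, List.prod_cons,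
        show ∀ A B : E, g * (A * B) * g⁻¹ = (g * A * g⁻¹) * (g * B * g⁻¹) from fun A B => by group]
      exact mul_mem (offmem x (hL x (by simp)).1 (hL x (by simp)).2 _) (ih fun z hz => hL z (by simp [hz]))
  have key := congrArg (fun z => g * z * g⁻¹) (S.rel a b t u ha hb hab hab')
  rw [show ∀ A B : E, g * (A * B) * g⁻¹ = (g * A * g⁻¹) * (g * B * g⁻¹) from fun A B => by group,
    show ∀ A B : E, g * (A * B) * g⁻¹ = (g * A * g⁻¹) * (g * B * g⁻¹) from fun A B => by group,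
    show ∀ A B : E, g * (A * B) * g⁻¹ = (g * A * g⁻¹) * (g * B * g⁻¹) from fun A B => by group,
    off a ha hapm.1 hapm.2, off b hb hbpm.1 hbpm.2,
    S.rel (σ a) (σ b) _ _ (hσ a ha) (hσ b hb) hσab.1 hσab.2] at key
  have hW := mul_left_cancel key
  have e : wordE y (D.commWord K a b t u) =
      wordE y (L1.map fun x => (x.1, (x.2.1 : K) * (-t) ^ x.2.2.1 * u ^ x.2.2.2)) * y q v *
        wordE y (L2.map fun x => (x.1, (x.2.1 : K) * (-t) ^ x.2.2.1 * u ^ x.2.2.2)) := by
    rw [ChevalleyDatum.commWord, hsplit]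
    simp [wordE, List.map_append, List.prod_append, mul_assoc, ← hCtu]
  rw [e, show ∀ A B Z : E, g * (A * B * Z) * g⁻¹ = (g * A * g⁻¹) * (g * B * g⁻¹) * (g * Z * g⁻¹) from
    fun A B Z => by group] at hW
  have m1 := lmem L1 fun x hx => ⟨by rw [hsplit]; simp [hx], hL1 x hx⟩
  have m2 := lmem L2 fun x hx => ⟨by rw [hsplit]; simp [hx], hL2 x hx⟩
  have mW := S.word_mem (hσ a ha) (hσ b hb) (P := Q) (fun _ h => h) ((c a : K) * t) ((c b : K) * u)
  have hmid : g * y q v * g⁻¹ ∈ yGen D y Q := by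
    have := mul_mem (mul_mem (inv_mem m1) mW) (inv_mem m2)
    rw [hW] at this
    simpa [mul_assoc] using this
  refine S.eq_of_proj (closedSet_comb _ _) f hQpos hmid
    (mem_yGen (hσ q hq) (hσQ _ hqmem) _) ?_
  rw [map_mul, map_mul, map_inv, S.proj q v hq, S.proj _ _ (hσ q hq), heq q v hq]

theorem nE_mem {r : ℕ} (hr : r < D.nroots) (t : K) : nE D y r t ∈ pairGrp D y r :=
  mul_mem (mul_mem (mem_yGen hr (Or.inl rfl) t) (mem_yGen (neg_lt S.checked hr) (Or.inr rfl) _))
    (mem_yGen hr (Or.inl rfl) t)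

theorem proj_nE {r : ℕ} (hr : r < D.nroots) (t : K) : φ (nE D y r t) = elN D K r t := by
  simp only [nE, elN, map_mul, S.proj r t hr, S.proj _ _ (neg_lt S.checked hr)]

/-- conjugation by n_i(t) for a fundamental root -/
theorem conj_nE (i : Fin D.rank) (t : Kˣ) :
    ∃ c : ℕ → Kˣ, Conj D y (nE D y (D.simple i) (t : K)) (sig D T i) c ∧
      ∀ r, r < D.nroots → (c r : K) =
        (chi (corChar D T (D.simple i) t) (rv D T (sig D T i r)) : K) * (eta D T i r : K) := by
  have hcoe : ∀ r, r < D.nroots →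
      (((if eta D T i r = 1 then 1 else -1 : Kˣ)) : K) = (eta D T i r : K) := fun r hr => by
    rcases (eta_spec S.checked i hr).1 with e | e <;> simp [e]
  refine ⟨fun r => chi (corChar D T (D.simple i) t) (rv D T (sig D T i r)) *
    (if eta D T i r = 1 then 1 else -1), ?_, fun r hr => by rw [Units.val_mul, hcoe r hr]⟩
  have hp := simple_lt S.checked i.2
  let w : (Fin D.rank → ℤ) ≃+ (Fin D.rank → ℤ) :=
    { toFun := CfsgLib.Chev.refl D i, invFun := CfsgLib.Chev.refl D i, left_inv := refl_refl S.checked i,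
      right_inv := refl_refl S.checked i, map_add' := refl_add i }
  refine S.conj_lift hp (S.nE_mem hp t) (fun r hr => sig_lt S.checked i hr) w
    (fun r hr => rv_sig S.checked i hr) (fun r hr => ?_) (fun r u hr => ?_)
  · refine ⟨-(∑ j : Fin D.rank, rv D T r j * cm D i j), ?_⟩
    rw [rv_sig S.checked i hr, rv_simple S.checked, CfsgLib.Chev.refl]
    funext j
    simp [Pi.single_apply, mul_comm]
    split <;> ring
  · rw [S.proj_nE hp, elN_eq_mul S.checked hp t,
      show ∀ A B X : GL D.Idx K, A * B * X * (A * B)⁻¹ = A * (B * X * B⁻¹) * A⁻¹ from fun A B X => by group,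
      nOne_conj_elX S.checked i hr, torus_conj_elX S.checked _ (sig_lt S.checked i hr), Units.val_mul, hcoe r hr,
      mul_assoc]

end Sys

end CfsgLib.Steinberg
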