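import Cfsg.Prelude.Def_SteinbergCover
import Cfsg.Agent.Lib.Steinberg.Conj

/-!
The groups presented by Steinberg's relations as systems of root elements over the Chevalley group.
-/

set_option autoImplicit false
set_option linter.unusedSectionVars false

namespace CfsgLib.Steinberg

open Cfsg.Lie CfsgLib.Chev

variable {D : ChevalleyDatum} {T : Tabs} (K : Type*) [Field K]

/-- the free map to the matrix group -/
noncomputable def freeHom (D : ChevalleyDatum) : FreeGroup (Fin D.nroots × K) →* GL D.Idx K :=
  FreeGroup.lift fun p => elX D K p.1.val p.2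

theorem freeHom_stX {r : ℕ} (hr : r < D.nroots) (t : K) : freeHom K D (D.stX r t) = elX D K r t := by
  rw [ChevalleyDatum.stX, dif_pos hr, freeHom, FreeGroup.lift_apply_of]

theorem freeHom_stWord {w : List (ℕ × K)} (hw : ∀ p ∈ w, p.1 < D.nroots) :
    freeHom K D (D.stWord w) = wordGL D K w := by
  rw [ChevalleyDatum.stWord, wordGL, map_list_prod, List.map_map]
  exact congrArg List.prod (List.map_congr_left fun p hp => freeHom_stX K (hw p hp) p.2)

theorem mk_stWord (rels : Set (FreeGroup (Fin D.nroots × K))) (w : List (ℕ × K)) :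
    PresentedGroup.mk rels (D.stWord w) = wordE (fun r t => PresentedGroup.mk rels (D.stX r t)) w := by
  rw [ChevalleyDatum.stWord, wordE, map_list_prod, List.map_map]
  rfl

theorem freeHom_relsAB (S : Setup D T) : ∀ g ∈ D.steinbergRelsAB K, freeHom K D g = 1 := by
  rintro g (⟨r, t₁, t₂, hr, rfl⟩ | ⟨r, s, t, u, hr, hs, hrs, hneg, rfl⟩)
  · rw [map_mul, map_mul, map_inv, freeHom_stX K hr, freeHom_stX K hr, freeHom_stX K hr, elX_add S.checked K hr,
      mul_inv_cancel]
  · rw [map_mul, map_mul, map_mul, map_mul, map_inv, map_inv, map_inv, freeHom_stX K hr, freeHom_stX K hs,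
      freeHom_stWord K (fun p hp => (commWord_mem S.checked hr hs t u p hp).1)]
    rw [show ∀ A B W : GL D.Idx K, A⁻¹ * B⁻¹ * A * B * W⁻¹ = A⁻¹ * B⁻¹ * (A * B) * W⁻¹ from
      fun A B W => by group, elX_comm S.checked S.comm hr hs hrs hneg t u]
    group

theorem freeHom_rels (S : Setup D T) : ∀ g ∈ D.steinbergRels K, freeHom K D g = 1 := by
  rintro g (hg | ⟨r, t₁, t₂, hr, h1, h2, rfl⟩)
  · exact freeHom_relsAB K S g hg
  · have hw : ∀ t : K, ∀ p ∈ D.hWord r t, p.1 < D.nroots := by
      intro t p hp
      simp only [ChevalleyDatum.hWord, ChevalleyDatum.nWord, List.mem_append, List.mem_cons, List.not_mem_nil,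
        or_false] at hp
      rcases hp with (rfl | rfl | rfl) | (rfl | rfl | rfl) <;> first | exact hr | exact neg_lt S.checked hr
    have he : ∀ t : K, freeHom K D (D.stH r t) = elH D K r t := by
      intro t
      rw [ChevalleyDatum.stH, freeHom_stWord K (hw t), wordGL]
      simp [ChevalleyDatum.hWord, ChevalleyDatum.nWord, elH, elN, mul_assoc]
    rw [map_mul, map_mul, map_inv, he, he, he, ← Units.val_mk0 h1, ← Units.val_mk0 h2, ← Units.val_mul,
      elH_eq_torus S.checked hr, elH_eq_torus S.checked hr, elH_eq_torus S.checked hr, ← map_mul, ← corChar_mul,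
      mul_inv_cancel]

/-- the projection of the group presented by (R1), (R2) -/
noncomputable def coverHom (S : Setup D T) : D.SteinbergCover K →* GL D.Idx K :=
  PresentedGroup.toGroup (f := fun p : Fin D.nroots × K => elX D K p.1.val p.2) (freeHom_relsAB K S)

theorem coverHom_scGen (S : Setup D T) {r : ℕ} (hr : r < D.nroots) (t : K) :
    coverHom K S (D.scGen K r t) = elX D K r t :=
  freeHom_stX K hr t

theorem coverSys (S : Setup D T) : Sys D T (D.scGen K) (coverHom K S) where
  toSetup := S
  add r s t hr := by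
    have h := PresentedGroup.one_of_mem (rels := D.steinbergRelsAB K) (Or.inl ⟨r, s, t, hr, rfl⟩)
    rw [map_mul, map_mul, map_inv, mul_inv_eq_one] at h
    exact h.symm
  rel r s t u hr hs hrs hneg := by
    have h := PresentedGroup.one_of_mem (rels := D.steinbergRelsAB K) (Or.inr ⟨r, s, t, u, hr, hs, hrs, hneg, rfl⟩)
    rw [map_mul, map_mul, map_mul, map_mul, map_inv, map_inv, map_inv, mul_inv_eq_one, mk_stWord] at h
    show D.scGen K s u * D.scGen K r t = D.scGen K r t * D.scGen K s u *
      wordE (fun r t => D.scGen K r t) (D.commWord K r s t u)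
    unfold ChevalleyDatum.scGen
    rw [← h]; group
  proj r t hr := coverHom_scGen K S hr t

/-- the projection of the group presented by (R1), (R2), (R3) -/
noncomputable def groupHom (S : Setup D T) : D.SteinbergGroup K →* GL D.Idx K :=
  PresentedGroup.toGroup (f := fun p : Fin D.nroots × K => elX D K p.1.val p.2) (freeHom_rels K S)

theorem groupHom_stGen (S : Setup D T) {r : ℕ} (hr : r < D.nroots) (t : K) :
    groupHom K S (D.stGen K r t) = elX D K r t :=
  freeHom_stX K hr t

theorem groupSys (S : Setup D T) : Sys D T (D.stGen K) (groupHom K S) where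
  toSetup := S
  add r s t hr := by
    have h := PresentedGroup.one_of_mem (rels := D.steinbergRels K) (Or.inl (Or.inl ⟨r, s, t, hr, rfl⟩))
    rw [map_mul, map_mul, map_inv, mul_inv_eq_one] at h
    exact h.symm
  rel r s t u hr hs hrs hneg := by
    have h := PresentedGroup.one_of_mem (rels := D.steinbergRels K)
      (Or.inl (Or.inr ⟨r, s, t, u, hr, hs, hrs, hneg, rfl⟩))
    rw [map_mul, map_mul, map_mul, map_mul, map_inv, map_inv, map_inv, mul_inv_eq_one, mk_stWord] at h
    show D.stGen K s u * D.stGen K r t = D.stGen K r t * D.stGen K s u *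
      wordE (fun r t => D.stGen K r t) (D.commWord K r s t u)
    unfold ChevalleyDatum.stGen
    rw [← h]; group
  proj r t hr := groupHom_stGen K S hr t

theorem cover_top : yGen D (D.scGen K) (fun _ => True) = ⊤ := by
  rw [eq_top_iff, ← PresentedGroup.closure_range_of, Subgroup.closure_le]
  rintro g ⟨⟨r, t⟩, rfl⟩
  refine Subgroup.subset_closure ⟨r.val, t, r.2, trivial, ?_⟩
  rw [ChevalleyDatum.scGen, ChevalleyDatum.stX, dif_pos r.2]; rfl

theorem group_top : yGen D (D.stGen K) (fun _ => True) = ⊤ := by
  rw [eq_top_iff, ← PresentedGroup.closure_range_of, Subgroup.closure_le]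
  rintro g ⟨⟨r, t⟩, rfl⟩
  refine Subgroup.subset_closure ⟨r.val, t, r.2, trivial, ?_⟩
  rw [ChevalleyDatum.stGen, ChevalleyDatum.stX, dif_pos r.2]; rfl

theorem stH_eq (r : ℕ) (t : K) : PresentedGroup.mk (D.steinbergRels K) (D.stH r t) = hE D (D.stGen K) r t ∧
    PresentedGroup.mk (D.steinbergRelsAB K) (D.stH r t) = hE D (D.scGen K) r t := by
  refine ⟨?_, ?_⟩ <;> rw [ChevalleyDatum.stH, mk_stWord] <;>
    simp [wordE, ChevalleyDatum.hWord, ChevalleyDatum.nWord, hE, nE, mul_assoc, ChevalleyDatum.stGen,
      ChevalleyDatum.scGen]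

end CfsgLib.Steinberg
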