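import Cfsg.Agent.Lib.Steinberg.Cover
import Cfsg.Agent.Lib.Chev.Bruhat

/-!
The kernel of the projection of a system of root elements lies in the group generated by the
`h_p(t)`, `p` fundamental; the Chevalley group has trivial centre.
-/

set_option autoImplicit false
set_option linter.unusedSectionVars false

namespace CfsgLib.Steinberg

open Cfsg.Lie CfsgLib.Chev

variable {D : ChevalleyDatum} {T : Tabs} {K : Type*} [Field K] {E : Type*} [Group E]

/-- the group generated by the h_p(t), p fundamental -/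
def hBar (D : ChevalleyDatum) (y : ℕ → K → E) : Subgroup E :=
  Subgroup.closure {g | ∃ (i : Fin D.rank) (t : Kˣ), g = hE D y (D.simple i) (t : K)}

/-- a product of n_p(1) in E -/
def nW (D : ChevalleyDatum) (y : ℕ → K → E) (L : List (Fin D.rank)) : E :=
  (L.map fun i : Fin D.rank => nE D y (D.simple i.val) (1 : K)).prod

theorem nW_append (y : ℕ → K → E) (L M : List (Fin D.rank)) :
    nW D y (L ++ M) = nW D y L * nW D y M := by
  simp [nW]

theorem nW_cons (y : ℕ → K → E) (i : Fin D.rank) (L : List (Fin D.rank)) :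
    nW D y (i :: L) = nE D y (D.simple i.val) (1 : K) * nW D y L := rfl

namespace Sys

variable {y : ℕ → K → E} {φ : E →* GL D.Idx K} (S : Sys D T y φ)
include S

theorem hE_mem_hBar (i : Fin D.rank) (t : Kˣ) : hE D y (D.simple i) (t : K) ∈ hBar D y :=
  Subgroup.subset_closure ⟨i, t, rfl⟩

theorem nE_eq_mul (i : Fin D.rank) (t : K) :
    nE D y (D.simple i) t = hE D y (D.simple i) t * nE D y (D.simple i) 1 := by
  rw [hE, ← S.nE_inv (simple_lt S.checked i.2), inv_mul_cancel_right]

theorem nOne_inv (i : Fin D.rank) :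
    ∃ h ∈ hBar D y, (nE D y (D.simple i) (1 : K))⁻¹ = h * nE D y (D.simple i) 1 := by
  refine ⟨hE D y (D.simple i) (-1), ?_, ?_⟩
  · simpa using S.hE_mem_hBar i (-1)
  · rw [S.nE_inv (simple_lt S.checked i.2), ← S.nE_eq_mul]

theorem nOne_conj_hBar (i : Fin D.rank) {h : E} (hh : h ∈ hBar D y) :
    nE D y (D.simple i) (1 : K) * h * (nE D y (D.simple i) (1 : K))⁻¹ ∈ hBar D y := by
  induction hh using Subgroup.closure_induction with
  | mem x hx =>
    obtain ⟨j, t, rfl⟩ := hx
    have hp := simple_lt S.checked i.2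
    have hc := S.conj_hE (simple_lt S.checked j.2) t
    set c := chi (corChar D T (D.simple j) t) (rv D T (D.simple i)) with hcdef
    have e : hE D y (D.simple j) (t : K) * nE D y (D.simple i) 1 *
        (hE D y (D.simple j) (t : K))⁻¹ = nE D y (D.simple i) (c : K) := by
      rw [nE, show ∀ G A B C : E, G * (A * B * C) * G⁻¹ = (G * A * G⁻¹) * (G * B * G⁻¹) * (G * C * G⁻¹)
        from fun _ _ _ _ => by group, hc _ _ hp, hc _ _ (neg_lt S.checked hp)]
      dsimp only
      rw [rv_neg S.checked hp, chi_neg, ← hcdef, nE, Units.val_inv_eq_inv_val]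
      simp
    have e2 : nE D y (D.simple i) (1 : K) * hE D y (D.simple j) (t : K) *
        (nE D y (D.simple i) (1 : K))⁻¹ =
        (hE D y (D.simple i) (c : K))⁻¹ * hE D y (D.simple j) (t : K) := by
      conv_rhs => rw [hE, ← S.nE_inv hp, ← e]
      group
    rw [e2]
    exact mul_mem (inv_mem (S.hE_mem_hBar i c)) (S.hE_mem_hBar j t)
  | one => simp
  | mul a b _ _ ha hb =>
    rw [show ∀ n : E, n * (a * b) * n⁻¹ = (n * a * n⁻¹) * (n * b * n⁻¹) from fun _ => by group]
    exact mul_mem ha hb
  | inv a _ ha =>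
    rw [show ∀ n : E, n * a⁻¹ * n⁻¹ = (n * a * n⁻¹)⁻¹ from fun _ => by group]
    exact inv_mem ha

theorem nW_conj_hBar (L : List (Fin D.rank)) {h : E} (hh : h ∈ hBar D y) :
    nW D y L * h * (nW D y L)⁻¹ ∈ hBar D y := by
  induction L with
  | nil => simpa [nW] using hh
  | cons i L ih =>
    rw [nW_cons, show ∀ n m : E, n * m * h * (n * m)⁻¹ = n * (m * h * m⁻¹) * n⁻¹ from
      fun _ _ => by group]
    exact S.nOne_conj_hBar i ih

theorem proj_nW (L : List (Fin D.rank)) : φ (nW D y L) = nProd D K L := by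
  induction L with
  | nil => simp [nW]
  | cons i L ih => rw [nW_cons, map_mul, ih, S.proj_nE (simple_lt S.checked i.2), nProd_cons]

theorem nW_mem_monGrp (L : List (Fin D.rank)) : nW D y L ∈ monGrp D y :=
  Subgroup.list_prod_mem _ fun g hg => by
    obtain ⟨i, -, rfl⟩ := List.mem_map.1 hg
    simpa using S.nE_mem_monGrp i 1

theorem proj_hBar {h : E} (hh : h ∈ hBar D y) : φ h ∈ D.diagonalSubgroup K := by
  induction hh using Subgroup.closure_induction with
  | mem x hx =>
    obtain ⟨i, t, rfl⟩ := hx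
    rw [S.proj_hE (simple_lt S.checked i.2)]
    exact torus_corChar_mem S.checked t
  | one => rw [map_one]; exact one_mem _
  | mul a b _ _ ha hb => rw [map_mul]; exact mul_mem ha hb
  | inv a _ ha => rw [map_inv]; exact inv_mem ha

/-- the action of a product of n_p(1) on a pair, read off in the matrix group -/
theorem nW_conj_pair (L : List (Fin D.rank)) {r : ℕ} (hr : r < D.nroots) :
    ∃ c : Kˣ, ((c : K) = 1 ∨ (c : K) = -1) ∧ ∀ t,
      nW D y L * y r t * (nW D y L)⁻¹ = y (sigs D T L r) ((c : K) * t) ∧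
      nW D y L * y (D.neg r) t * (nW D y L)⁻¹ = y (D.neg (sigs D T L r)) ((c : K) * t) := by
  obtain ⟨σ, d, hconj, hσ⟩ := S.monGrp_conj (S.nW_mem_monGrp L)
  obtain ⟨c, hc1, hcx⟩ := nProd_conj_elX_pair S.checked (F := K) L hr
  have hu := sigs_lt S.checked L hr
  have key : ∀ v w, v < D.nroots → w < D.nroots →
      (∀ t, nProd D K L * elX D K v t * (nProd D K L)⁻¹ = elX D K w ((c : K) * t)) →
      σ v = w ∧ d v = c := by
    intro v w hv hw h
    have h' : ∀ t, elX D K w ((c : K) * t) = elX D K (σ v) ((d v : K) * t) := by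
      intro t
      rw [← h, ← S.proj v t hv, ← S.proj (σ v) _ (hσ v hv).1, ← S.proj_nW L, ← map_inv, ← map_mul,
        ← map_mul, hconj v t hv]
    have e := elX_root_unique S.checked hw (hσ v hv).1 (by simp) (h' 1)
    have h2 := h' 1
    rw [← e, mul_one, mul_one, ← mul_inv_eq_one, elX_inv S.checked K hw, elX_add S.checked K hw,
      elX_eq_one_iff S.checked hw] at h2
    exact ⟨e.symm, Units.ext (by linear_combination -h2)⟩
  obtain ⟨e1, e2⟩ := key r _ hr hu fun t => (hcx t).1
  obtain ⟨e3, e4⟩ := key (D.neg r) _ (neg_lt S.checked hr) (neg_lt S.checked hu) fun t => (hcx t).2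
  refine ⟨c, hc1, fun t => ⟨?_, ?_⟩⟩
  · rw [hconj r t hr, e1, e2]
  · rw [hconj _ t (neg_lt S.checked hr), e3, e4]

/-- exchange modulo the h_p(t) -/
theorem exchange_hBar (L : List (Fin D.rank)) (i : Fin D.rank)
    (hneg : sigs D T L (D.simple i.val) < D.nroots / 2) :
    ∃ L' : List (Fin D.rank), L'.length + 1 = L.length ∧
      nW D y (L ++ [i]) * (nW D y L')⁻¹ ∈ hBar D y := by
  have hpi := simple_lt S.checked i.2
  induction L with
  | nil => have := half_le_simple S.checked i.2; simp [sigs] at hneg; omega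
  | cons j L ih =>
    by_cases h : sigs D T L (D.simple i.val) < D.nroots / 2
    · obtain ⟨L', h1, h3⟩ := ih h
      refine ⟨j :: L', by simp [h1], ?_⟩
      rw [List.cons_append, nW_cons, nW_cons, show ∀ n a b : E, n * a * (n * b)⁻¹ = n * (a * b⁻¹) * n⁻¹
        from fun n a b => by group]
      exact S.nOne_conj_hBar j h3
    · have hu := sigs_lt S.checked L hpi
      have hj : sigs D T L (D.simple i.val) = D.simple j.val := by
        by_contra hne
        rw [sigs_cons] at hneg
        have := (sig_pos S.checked j hu (by omega) hne).1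
        omega
      refine ⟨L, by simp, ?_⟩
      obtain ⟨c, hc1, hcx⟩ := S.nW_conj_pair L hpi
      rw [hj] at hcx
      have hm : nW D y L * nE D y (D.simple i.val) 1 * (nW D y L)⁻¹ = nE D y (D.simple j.val) (c : K) := by
        rw [nE, show ∀ m a b e : E, m * (a * b * e) * m⁻¹ = (m * a * m⁻¹) * (m * b * m⁻¹) * (m * e * m⁻¹)
          from fun m a b e => by group, (hcx 1).1, (hcx _).2, nE]
        congr 2 <;> rcases hc1 with e | e <;> simp [e]
      obtain ⟨k, hk, f⟩ := S.nOne_inv j
      set n := nE D y (D.simple j.val) (1 : K) with hn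
      have key := mul_mem (S.nOne_conj_hBar j (S.hE_mem_hBar j c)) (inv_mem hk)
      rw [← hn, show k = n⁻¹ * n⁻¹ from eq_mul_inv_of_mul_eq f.symm] at key
      convert key using 1
      rw [List.cons_append, nW_cons, nW_append, show nW D y [i] = nE D y (D.simple i.val) (1 : K) from
        mul_one _, ← hn, show n * (nW D y L * nE D y (D.simple i.val) 1) * (nW D y L)⁻¹ =
          n * (nW D y L * nE D y (D.simple i.val) 1 * (nW D y L)⁻¹) by group, hm, S.nE_eq_mul j, ← hn]
      group

theorem monGrp_cases {g : E} (hg : g ∈ monGrp D y) :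
    ∃ h ∈ hBar D y, ∃ L : List (Fin D.rank), g = h * nW D y L := by
  have gen : ∀ (i : Fin D.rank) (t : Kˣ),
      ∃ h ∈ hBar D y, ∃ L : List (Fin D.rank), nE D y (D.simple i) (t : K) = h * nW D y L :=
    fun i t => ⟨_, S.hE_mem_hBar i t, [i], by
      rw [S.nE_eq_mul i, show nW D y [i] = nE D y (D.simple i.val) (1 : K) from mul_one _]⟩
  induction hg using Subgroup.closure_induction'' with
  | mem x hx => obtain ⟨i, t, rfl⟩ := hx; exact gen i t
  | inv_mem x hx =>
    obtain ⟨i, t, rfl⟩ := hx
    rw [S.nE_inv (simple_lt S.checked i.2), ← Units.val_neg]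
    exact gen i (-t)
  | one => exact ⟨1, one_mem _, [], by simp [nW]⟩
  | mul a b _ _ ha hb =>
    obtain ⟨h, hh, L, rfl⟩ := ha
    obtain ⟨k, hk, M, rfl⟩ := hb
    exact ⟨_, mul_mem hh (S.nW_conj_hBar L hk), L ++ M, by rw [nW_append]; group⟩

/-- a product of n_p(1) lying over the torus lies in the group of the h_p(t) -/
theorem nW_mem_hBar (L : List (Fin D.rank)) (h : nProd D K L ∈ D.diagonalSubgroup K) :
    nW D y L ∈ hBar D y := by
  suffices key : ∀ d, ∀ L : List (Fin D.rank), L.length = d → nProd D K L ∈ D.diagonalSubgroup K →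
      nW D y L ∈ hBar D y from key _ L rfl h
  intro d
  induction d using Nat.strong_induction_on with
  | _ d ih =>
    intro L hL h
    rcases List.eq_nil_or_concat L with rfl | ⟨M, i, rfl⟩
    · exact one_mem _
    · rw [List.concat_eq_append] at hL h ⊢
      have hp := simple_lt S.checked i.2
      have hsig := sigs_eq_of_mem S.checked (F := K) (L := M ++ [i]) (M := [])
        (by simpa using h) hp
      rw [sigs_append, show sigs D T [i] (D.simple i.val) = sig D T i (D.simple i.val) from rfl,
        sig_simple S.checked, sigs_neg S.checked M hp] at hsig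
      change D.neg (sigs D T M (D.simple i.val)) = D.simple i.val at hsig
      have hneg : sigs D T M (D.simple i.val) < D.nroots / 2 := by
        have hu := sigs_lt S.checked M hp (T := T)
        rw [neg_eq S.checked hu] at hsig
        have := half_le_simple S.checked i.2; have := nroots_eq_two_mul S.checked
        omega
      obtain ⟨L', h1, h3⟩ := S.exchange_hBar M i hneg
      have h4 : nProd D K L' ∈ D.diagonalSubgroup K := by
        have := mul_mem (inv_mem (S.proj_hBar h3)) h
        rwa [map_mul, map_inv, S.proj_nW, S.proj_nW, mul_inv_rev, inv_inv,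
          inv_mul_cancel_right] at this
      have := mul_mem h3 (ih L'.length (by simp at hL; omega) L' rfl h4)
      rwa [inv_mul_cancel_right] at this

variable (gen : yGen D y (fun _ => True) = ⊤)
include gen

/-- the kernel of the projection lies in the group of the h_p(t) -/
theorem ker_le_hBar {g : E} (hg : φ g = 1) : g ∈ hBar D y := by
  obtain ⟨h, hh, L, rfl⟩ := S.monGrp_cases (S.ker_le gen hg).1
  rw [map_mul, S.proj_nW] at hg
  refine mul_mem hh (S.nW_mem_hBar L ?_)
  rw [eq_inv_of_mul_eq_one_right hg]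
  exact inv_mem (S.proj_hBar hh)

end Sys

section
variable (hc : Checked D T) (hcomm : CommOne D T)
include hc hcomm

/-- the Chevalley group has trivial centre -/
theorem group_center_trivial {z : GL D.Idx K} (hz : z ∈ D.group K)
    (hcen : ∀ g ∈ D.group K, g * z = z * g) : z = 1 := by
  obtain ⟨u, hu, h, hh, L, v, hv, e⟩ := exists_bruhat hc hcomm hz
  set n := h * nProd D K L with hn
  have hnN : n ∈ D.monomialSubgroup K :=
    mul_mem (diagonal_le_monomial hc hh) (nProd_mem_monomial hc L)
  have e1 : z = n * (v * u) := by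
    have hc1 := hcen u (pos_le_group hc hu)
    calc z = u⁻¹ * (u * z) := by group
      _ = u⁻¹ * (z * u) := by rw [hc1]
      _ = _ := by rw [e]; group
  have hw : v * u ∈ uGen D K (fun r => D.nroots / 2 ≤ r) := mul_mem (uInv_le_pos hc L hv) hu
  obtain ⟨k, hk, M, hM⟩ := monomial_cases hc (inv_mem hnN)
  have hdiag : n⁻¹ ∈ D.diagonalSubgroup K := by
    rw [hM]
    refine mul_mem hk (nProd_mem_of_pos hc M fun i => ?_)
    by_contra hh'
    have hp := simple_lt hc i.2
    obtain ⟨c, -, hcx⟩ := nProd_conj_elX hc (F := K) M hp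
    obtain ⟨d, hd⟩ := diagonal_conj_elX hc hk (sigs_lt hc M hp)
    set x := elX D K (D.simple i.val) (1 : K) with hxdef
    have hx : x ∈ uGen D K (fun r => D.nroots / 2 ≤ r) :=
      elX_mem_uGen hp (P := fun r => D.nroots / 2 ≤ r) (half_le_simple hc i.2) _
    have h1 : n⁻¹ * x * n = elX D K (sigs D T M (D.simple i.val)) ((d : K) * ((c : K) * 1)) := by
      rw [← hd, ← hcx, hxdef, show n = (k * nProd D K M)⁻¹ by rw [← hM, inv_inv]]; group
    have hxz := hcen x (pos_le_group hc hx)
    rw [e1] at hxz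
    have h2 : n⁻¹ * x * n = (v * u) * x * (v * u)⁻¹ := by
      calc n⁻¹ * x * n = n⁻¹ * (x * (n * (v * u))) * (v * u)⁻¹ := by group
        _ = _ := by rw [hxz]; group
    have h3 := pos_le_borel hc (mul_mem (mul_mem hw hx) (inv_mem hw))
    rw [← h2, h1] at h3
    exact elX_not_mem_borel hc (sigs_lt hc M hp) (Nat.not_le.mp hh')
      (mul_ne_zero d.ne_zero (mul_ne_zero c.ne_zero one_ne_zero)) h3
  have hzB : z ∈ D.borelSubgroup K := by
    rw [e1]
    refine mul_mem (diagonal_le_borel hc ?_) (pos_le_borel hc hw)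
    simpa using inv_mem hdiag
  have hcore : (⟨z, hz⟩ : ↥(D.group K)) ∈
      ((D.borelSubgroup K).subgroupOf (D.group K)).normalCore := by
    intro b
    rw [Subgroup.mem_subgroupOf, Subgroup.coe_mul, Subgroup.coe_mul, Subgroup.coe_inv,
      hcen b b.2, mul_inv_cancel_right]
    exact hzB
  rw [core_borel hc, Subgroup.mem_bot] at hcore
  exact congrArg Subtype.val hcore

end

/-- the group presented by (R1), (R2), (R3) maps onto the Chevalley group with kernel the centre -/
theorem group_ker_eq_center (S : Setup D T) :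
    ∃ θ : D.SteinbergGroup K →* ↥(D.group K), Function.Surjective θ ∧
      θ.ker = Subgroup.center (D.SteinbergGroup K) ∧
      ∀ (r : ℕ) (t : K), r < D.nroots →
        ((θ (D.stGen K r t) : GL D.Idx K) : Matrix D.Idx D.Idx K) = D.x K r t := by
  obtain ⟨θ, h1, h2, h3⟩ := (groupSys K S).exists_toGroup (group_top K)
  refine ⟨θ, h1, le_antisymm h2 fun z hz => ?_, fun r t hr => by
    rw [h3, groupHom_stGen K S hr, coe_elX S.checked K hr]⟩
  rw [MonoidHom.mem_ker]
  refine Subtype.ext (group_center_trivial S.checked S.comm (θ z).2 fun g hg => ?_)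
  obtain ⟨a, ha⟩ := h1 ⟨g, hg⟩
  have := congrArg θ (Subgroup.mem_center_iff.1 hz a)
  rw [map_mul, map_mul, ha] at this
  exact congrArg Subtype.val this

/-- a homomorphism with the given values on generators is the projection -/
theorem groupHom_eq_of_ker (S : Setup D T) (θ : D.SteinbergGroup K →* ↥(D.group K))
    (hθ : ∀ (r : ℕ) (t : K), r < D.nroots →
      ((θ (D.stGen K r t) : GL D.Idx K) : Matrix D.Idx D.Idx K) = D.x K r t) :
    (D.group K).subtype.comp θ = groupHom K S := by
  refine PresentedGroup.ext fun p => ?_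
  have hp : (PresentedGroup.of p : D.SteinbergGroup K) = D.stGen K p.1.val p.2 := by
    rw [ChevalleyDatum.stGen, ChevalleyDatum.stX, dif_pos p.1.2]; rfl
  rw [hp, MonoidHom.comp_apply, groupHom_stGen K S p.1.2]
  exact eq_elX_of_coe S.checked p.1.2 (hθ _ _ p.1.2)

/-- a homomorphism with the given values on generators has kernel in the group of the h_p(t) -/
theorem group_ker_le_diagonal (S : Setup D T) (θ : D.SteinbergGroup K →* ↥(D.group K))
    (hθ : ∀ (r : ℕ) (t : K), r < D.nroots →
      ((θ (D.stGen K r t) : GL D.Idx K) : Matrix D.Idx D.Idx K) = D.x K r t) :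
    θ.ker ≤ Subgroup.closure {h | ∃ (i : ℕ) (t : K), i < D.rank ∧ t ≠ 0 ∧
      h = PresentedGroup.mk (D.steinbergRels K) (D.stH (D.simple i) t)} := by
  have heq := groupHom_eq_of_ker S θ hθ
  intro g hg
  have h1 : groupHom K S g = 1 := by
    rw [← heq, MonoidHom.comp_apply, MonoidHom.mem_ker.1 hg, map_one]
  refine Subgroup.closure_mono ?_ ((groupSys K S).ker_le_hBar (group_top K) h1)
  rintro x ⟨i, t, rfl⟩
  exact ⟨i, t, i.2, t.ne_zero, ((stH_eq K _ _).1).symm⟩

end CfsgLib.Steinberg
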