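import Cfsg.Agent.Lib.Chev.Monomial
import Cfsg.Agent.Lib.Steinberg.Witness

/-!
Abstract systems of root elements satisfying (R1) and (R2) over the Chevalley group: injectivity on unipotent
subgroups, and identities transported from the matrix group.
-/

set_option autoImplicit false
set_option linter.unusedSectionVars false

namespace CfsgLib.Steinberg

open Cfsg.Lie CfsgLib.Chev

variable {D : ChevalleyDatum} {T : Tabs} {K : Type*} [Field K] {E : Type*} [Group E]

/-- what is known about the datum -/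
structure Setup (D : ChevalleyDatum) (T : Tabs) : Prop where
  checked : Checked D T
  comm : CommOne D T
  wit : HasWit D

theorem exists_setup {D : ChevalleyDatum}
    (hD : D ∈ [chevG2, chevB2, chevD4, chevF4, chevE6, chevE7, chevE8]) : ∃ T, Setup D T := by
  obtain ⟨T, h1, h2⟩ := exists_checked' hD
  exact ⟨T, h1, h2, hasWit hD⟩

/-- the product of a word in the abstract root elements -/
def wordE (y : ℕ → K → E) (w : List (ℕ × K)) : E := (w.map fun p => y p.1 p.2).prod

/-- additive root elements mapped onto those of the Chevalley group -/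
structure Pre (D : ChevalleyDatum) (T : Tabs) (y : ℕ → K → E) (φ : E →* GL D.Idx K) : Prop extends Setup D T where
  add : ∀ r s t, r < D.nroots → y r (s + t) = y r s * y r t
  proj : ∀ r t, r < D.nroots → φ (y r t) = elX D K r t

/-- the relation (R2) for a pair of roots -/
def RelAt (D : ChevalleyDatum) (y : ℕ → K → E) (r s : ℕ) : Prop :=
  ∀ t u, y s u * y r t = y r t * y s u * wordE y (D.commWord K r s t u)

/-- (R2) for the pairs of a set of roots -/
def RelOn (D : ChevalleyDatum) (y : ℕ → K → E) (P : ℕ → Prop) : Prop :=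
  ∀ r s, r < D.nroots → s < D.nroots → s ≠ r → s ≠ D.neg r → P r → P s → RelAt D y r s

/-- root elements satisfying (R1), (R2), mapped onto those of the Chevalley group -/
structure Sys (D : ChevalleyDatum) (T : Tabs) (y : ℕ → K → E) (φ : E →* GL D.Idx K) : Prop
    extends Pre D T y φ where
  rel : ∀ r s t u, r < D.nroots → s < D.nroots → s ≠ r → s ≠ D.neg r →
    y s u * y r t = y r t * y s u * wordE y (D.commWord K r s t u)

/-- the subgroup of root elements of a set of roots -/
def yGen (D : ChevalleyDatum) (y : ℕ → K → E) (P : ℕ → Prop) : Subgroup E :=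
  Subgroup.closure {g | ∃ r t, r < D.nroots ∧ P r ∧ g = y r t}

/-- closed under positive combinations -/
def ClosedSet (D : ChevalleyDatum) (T : Tabs) (P : ℕ → Prop) : Prop :=
  ∀ r s v, r < D.nroots → s < D.nroots → P r → P s → CombRoot D T r s v → P v

/-- the combinations `i a + j b` with `i, j > 0` form a closed set -/
theorem closedSet_comb (a b : ℕ) : ClosedSet D T (CombRoot D T a b) := by
  rintro r s v - - ⟨-, i, j, hi, hj, hr⟩ ⟨-, i', j', hi', hj', hs⟩ ⟨hv, k, l, hk, hl, hkl⟩
  refine ⟨hv, k * i + l * i', k * j + l * j', by positivity, by positivity, ?_⟩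
  rw [hkl, hr, hs]
  push_cast
  module

/-- roots `j s + i p` with `j > 0` -/
def Strip (D : ChevalleyDatum) (T : Tabs) (p s v : ℕ) : Prop :=
  v < D.nroots ∧ ∃ i : ℤ, ∃ j : ℕ, 0 < j ∧ rv D T v = i • rv D T p + (j : ℤ) • rv D T s

theorem closedSet_strip (p s : ℕ) : ClosedSet D T (Strip D T p s) := by
  rintro r t v - - ⟨-, i, j, hj, hr⟩ ⟨-, i', j', hj', ht⟩ ⟨hv, k, l, hk, hl, hkl⟩
  refine ⟨hv, k * i + l * i', k * j + l * j', by positivity, ?_⟩
  rw [hkl, hr, ht]
  push_cast
  module

theorem exists_functional (hc : Checked D T) {r s : ℕ} (hr : r < D.nroots) (hs : s < D.nroots) (h1 : s ≠ r)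
    (h2 : s ≠ D.neg r) :
    ∃ f : (Fin D.rank → ℤ) →+ ℤ, f (rv D T r) = 0 ∧ 0 < f (rv D T s) := by
  by_contra hno
  have key : ∀ i j, rv D T r i * rv D T s j = rv D T r j * rv D T s i := by
    intro i j
    by_contra hne
    let c := rv D T r i * rv D T s j - rv D T r j * rv D T s i
    have hcne : c ≠ 0 := sub_ne_zero.2 hne
    refine hno ⟨AddMonoidHom.mk' (fun v => c * (rv D T r i * v j - rv D T r j * v i))
      (fun v w => by simp only [Pi.add_apply]; ring), by simp [mul_comm], ?_⟩
    show 0 < c * c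
    exact mul_self_pos.2 hcne
  obtain ⟨i, hi⟩ : ∃ i, rv D T r i ≠ 0 := by
    by_contra h
    exact rv_ne_zero hc hr (funext fun i => by_contra fun h' => h ⟨i, h'⟩)
  rcases eq_or_eq_neg_of_prop hc hr s hs (rv D T s i) (-(rv D T r i)) (neg_ne_zero.2 hi) (funext fun j => by
    simp only [Pi.add_apply, Pi.smul_apply, smul_eq_mul, Pi.zero_apply]
    have := key i j
    linarith) with h | h
  · exact h1 h
  · exact h2 h

theorem exists_functional_pos (hc : Checked D T) {r s : ℕ} (hr : r < D.nroots) (hs : s < D.nroots) (h1 : s ≠ r)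
    (h2 : s ≠ D.neg r) :
    ∃ f : (Fin D.rank → ℤ) →+ ℤ, 0 < f (rv D T r) ∧ 0 < f (rv D T s) := by
  obtain ⟨f, f1, f2⟩ := exists_functional hc hr hs h1 h2
  obtain ⟨g, g1, g2⟩ := exists_functional hc hs hr h1.symm (fun h => h2 (by rw [h, neg_neg_root hc hs]))
  exact ⟨f + g, by rw [AddMonoidHom.add_apply, f1, zero_add]; exact g2,
    by rw [AddMonoidHom.add_apply, g1, add_zero]; exact f2⟩

/-- the functional attached to the index order -/
def keyHom (D : ChevalleyDatum) : (Fin D.rank → ℤ) →+ ℤ :=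
  AddMonoidHom.mk' (keyLin D) keyLin_add

theorem hom_smul (f : (Fin D.rank → ℤ) →+ ℤ) (c : ℤ) (v : Fin D.rank → ℤ) : f (c • v) = c * f v := by
  rw [map_zsmul, smul_eq_mul]

theorem exists_injective_functional (hc : Checked D T) (f : (Fin D.rank → ℤ) →+ ℤ) :
    ∃ g : (Fin D.rank → ℤ) →+ ℤ, (∀ r, r < D.nroots → 0 < f (rv D T r) → 0 < g (rv D T r)) ∧
      ∀ r s, r < D.nroots → s < D.nroots → g (rv D T r) = g (rv D T s) → r = s := by
  set S := ∑ r ∈ Finset.range D.nroots, |keyLin D (rv D T r)| with hS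
  have hb : ∀ r, r < D.nroots → |keyLin D (rv D T r)| ≤ S := fun r hr =>
    Finset.single_le_sum (f := fun r => |keyLin D (rv D T r)|) (fun _ _ => abs_nonneg _) (Finset.mem_range.2 hr)
  refine ⟨AddMonoidHom.mk' (fun v => (2 * S + 1) * f v + keyLin D v) (fun v w => by
    rw [map_add, keyLin_add]; ring), fun r hr h => ?_, fun r s hr hs h => ?_⟩
  · show 0 < (2 * S + 1) * f (rv D T r) + keyLin D (rv D T r)
    have := abs_le.1 (hb r hr)
    nlinarith
  · change (2 * S + 1) * f (rv D T r) + keyLin D (rv D T r) =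
      (2 * S + 1) * f (rv D T s) + keyLin D (rv D T s) at h
    have h1 := abs_le.1 (hb r hr)
    have h2 := abs_le.1 (hb s hs)
    rcases lt_trichotomy (f (rv D T r)) (f (rv D T s)) with e | e | e
    · have : f (rv D T r) + 1 ≤ f (rv D T s) := e
      nlinarith
    · rw [e, add_right_inj] at h
      by_contra hne
      rcases lt_or_gt_of_ne hne with l | l
      · exact absurd h (ne_of_lt ((key_lt_iff hc hr hs).2 l))
      · exact absurd h.symm (ne_of_lt ((key_lt_iff hc hs hr).2 l))
    · have : f (rv D T s) + 1 ≤ f (rv D T r) := e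
      nlinarith

/-- reading off the coordinate of the root of least `f`-value -/
theorem coord_eq_of_functional (hc : Checked D T) (f : (Fin D.rank → ℤ) →+ ℤ) {k : ℕ} (hk : k < D.nroots)
    (hf : 0 < f (rv D T k)) (a : K) {P : ℕ → Prop} (hP : ∀ r, r < D.nroots → P r → f (rv D T k) < f (rv D T r))
    {v : GL D.Idx K} (hv : v ∈ uGen D K P) (j : Fin D.rank) :
    ((elX D K k a * v : GL D.Idx K) : Matrix D.Idx D.Idx K) (Sum.inl j) (Sum.inr ⟨D.neg k, neg_lt hc hk⟩) =
      (cv T k j : K) * a := by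
  set y : D.Idx := Sum.inr ⟨D.neg k, neg_lt hc hk⟩ with hy
  have hkey : f (wI D T y) = -f (rv D T k) := by rw [hy, wI_inr, rv_neg hc hk, map_neg]
  have hR := raises_uGen hc (f := f) (map_add f) (hom_smul f) (d := f (rv D T k) + 1) (by omega)
    (fun r hr hPr => by have := hP r hr hPr; omega) hv
  have hne : ∀ z : D.Idx, (v : Matrix D.Idx D.Idx K) z y ≠ (1 : Matrix D.Idx D.Idx K) z y →
      1 ≤ f (wI D T z) := fun z hz => by have := hR z y hz; omega
  rw [Units.val_mul, Matrix.mul_apply, Finset.sum_eq_single y]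
  · have h1 : (v : Matrix D.Idx D.Idx K) y y = 1 := by
      by_contra h; have := hne y (by rwa [Matrix.one_apply_eq]); omega
    rw [h1, mul_one, coe_elX hc K hk, xMat_eq hc K hk]
    simp only [xTab, Matrix.add_apply, Matrix.smul_apply, Matrix.map_apply, tabMat_apply, tabK_one, tabK_two,
      tabK_three, hy, cd_inr, cd_inl, field_t1 hc hk (neg_lt hc hk), field_t2 hc hk, field_t3 hc hk,
      chainEntry_neg hc hk, if_true, decCode_marker,
      decCode_encNZ (show (-7 : ℤ) ≤ -1 by norm_num) (show (-1 : ℤ) ≤ 7 by norm_num), coeffAt_corVec]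
    rw [if_pos (show D.nroots ≤ D.nroots + j.val ∧ D.nroots + j.val < D.nroots + D.rank by omega),
      Nat.add_sub_cancel_left]
    simp [optCode, coeffAt_cons, show k ≠ D.nroots + j.val by omega, mul_comm]
  · intro z _ hz
    by_cases h2 : (v : Matrix D.Idx D.Idx K) z y = 0
    · rw [h2, mul_zero]
    have g := hne z (by rwa [Matrix.one_apply_ne hz])
    have hzl : (Sum.inl j : D.Idx) ≠ z := fun e => by rw [← e, wI_inl, map_zero] at g; omega
    have hx := raises_elX hc (f := f) (map_add f) (hom_smul f) hk (d := 0) le_rfl (by omega) a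
      (Sum.inl j) z
    by_contra hne'
    have := hx (by rw [Matrix.one_apply_ne hzl]; exact left_ne_zero_of_mul hne')
    rw [wI_inl, map_zero] at this; omega
  · simp

theorem mem_yGen {y : ℕ → K → E} {P : ℕ → Prop} {r : ℕ} (hr : r < D.nroots) (hP : P r) (t : K) :
    y r t ∈ yGen D y P :=
  Subgroup.subset_closure ⟨r, t, hr, hP, rfl⟩

theorem yGen_mono {y : ℕ → K → E} {P Q : ℕ → Prop} (h : ∀ r, r < D.nroots → P r → Q r) :
    yGen D y P ≤ yGen D y Q :=
  Subgroup.closure_mono fun _ ⟨r, t, hr, hP, e⟩ => ⟨r, t, hr, h r hr hP, e⟩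

namespace Pre

variable {y : ℕ → K → E} {φ : E →* GL D.Idx K} (S : Pre D T y φ)
include S

theorem y_zero {r : ℕ} (hr : r < D.nroots) : y r 0 = 1 := by
  have := S.add r 0 0 hr
  rw [add_zero] at this
  exact left_eq_mul.1 this

theorem y_inv {r : ℕ} (hr : r < D.nroots) (t : K) : (y r t)⁻¹ = y r (-t) := by
  apply inv_eq_of_mul_eq_one_right
  rw [← S.add r t (-t) hr, add_neg_cancel, S.y_zero hr]

theorem word_mem {r s : ℕ} (hr : r < D.nroots) (hs : s < D.nroots) {P : ℕ → Prop}
    (h : ∀ v, CombRoot D T r s v → P v) (t u : K) : wordE y (D.commWord K r s t u) ∈ yGen D y P := by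
  refine Subgroup.list_prod_mem _ fun g hg => ?_
  obtain ⟨p, hp, rfl⟩ := List.mem_map.1 hg
  have hP := commWord_mem S.checked hr hs t u p hp
  exact mem_yGen hP.1 (h _ hP) p.2

theorem conj_eq {r s : ℕ} (hr : r < D.nroots) (hs : s < D.nroots) (hrel : RelAt D y r s) (t u : K) :
    y r t * y s u * (y r t)⁻¹ = y s u * wordE y (D.commWord K r s (-t) u) := by
  rw [S.y_inv hr, mul_assoc, hrel (-t) u, ← mul_assoc, ← mul_assoc, ← S.add r t (-t) hr,
    add_neg_cancel, S.y_zero hr, one_mul]

theorem conj_mem {r : ℕ} (hr : r < D.nroots) {P : ℕ → Prop}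
    (h : ∀ s, s < D.nroots → P s → s ≠ r → (RelAt D y r s ∧ ∀ v, CombRoot D T r s v → P v)) (t : K)
    {g : E} (hg : g ∈ yGen D y P) : y r t * g * (y r t)⁻¹ ∈ yGen D y P := by
  induction hg using Subgroup.closure_induction with
  | mem x hx =>
    obtain ⟨s, u, hs, hP, rfl⟩ := hx
    by_cases hsr : s = r
    · subst hsr
      rw [← S.add s t u hs, S.y_inv hs, ← S.add s _ _ hs, show t + u + -t = u by ring]
      exact mem_yGen hs hP u
    · obtain ⟨h1, h2⟩ := h s hs hP hsr
      rw [S.conj_eq hr hs h1]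
      exact mul_mem (mem_yGen hs hP u) (S.word_mem hr hs h2 _ _)
  | one => simp
  | mul a b _ _ ha hb =>
    rw [show y r t * (a * b) * (y r t)⁻¹ = (y r t * a * (y r t)⁻¹) * (y r t * b * (y r t)⁻¹) by group]
    exact mul_mem ha hb
  | inv a _ ha =>
    rw [show y r t * a⁻¹ * (y r t)⁻¹ = (y r t * a * (y r t)⁻¹)⁻¹ by group]
    exact inv_mem ha

theorem map_yGen {P : ℕ → Prop} {g : E} (hg : g ∈ yGen D y P) : φ g ∈ uGen D K P := by
  induction hg using Subgroup.closure_induction with
  | mem x hx =>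
    obtain ⟨r, t, hr, hP, rfl⟩ := hx
    rw [S.proj r t hr]
    exact elX_mem_uGen hr hP t
  | one => simp
  | mul a b _ _ ha hb => rw [map_mul]; exact mul_mem ha hb
  | inv a _ ha => rw [map_inv]; exact inv_mem ha

/-- `φ` is injective on the group of a closed set of roots on which a functional is positive -/
theorem inj {P : ℕ → Prop} (hP : ClosedSet D T P) (hR : RelOn D y P) (f : (Fin D.rank → ℤ) →+ ℤ)
    (hf : ∀ r, r < D.nroots → P r → 0 < f (rv D T r)) {g : E} (hg : g ∈ yGen D y P) (h1 : φ g = 1) : g = 1 := by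
  classical
  obtain ⟨f, hfpos, hfinj⟩ : ∃ f : (Fin D.rank → ℤ) →+ ℤ, (∀ r, r < D.nroots → P r → 0 < f (rv D T r)) ∧
      ∀ r s, r < D.nroots → s < D.nroots → f (rv D T r) = f (rv D T s) → r = s := by
    obtain ⟨g, g1, g2⟩ := exists_injective_functional S.checked f
    exact ⟨g, fun r hr hPr => g1 r hr (hf r hr hPr), g2⟩
  clear hf
  induction hn : ((Finset.range D.nroots).filter P).card using Nat.strong_induction_on generalizing P g with
  | _ n ih =>
    by_cases hemp : ((Finset.range D.nroots).filter P).Nonempty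
    swap
    · have hb : yGen D y P = ⊥ := by
        rw [eq_bot_iff, yGen, Subgroup.closure_le]
        rintro x ⟨r, t, hr, hPr, rfl⟩
        exact absurd ⟨r, Finset.mem_filter.2 ⟨Finset.mem_range.2 hr, hPr⟩⟩ hemp
      rw [hb, Subgroup.mem_bot] at hg
      exact hg
    obtain ⟨k, hk, hmin⟩ := Finset.exists_min_image _ (fun r => f (rv D T r)) hemp
    obtain ⟨hkn, hPk⟩ := Finset.mem_filter.1 hk
    rw [Finset.mem_range] at hkn
    let P' : ℕ → Prop := fun r => P r ∧ r ≠ k
    have hlt : ∀ r, r < D.nroots → P' r → f (rv D T k) < f (rv D T r) := fun r hr hr' =>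
      lt_of_le_of_ne (hmin r (Finset.mem_filter.2 ⟨Finset.mem_range.2 hr, hr'.1⟩))
        fun e => hr'.2 (hfinj k r hkn hr e).symm
    have hcomb : ∀ r s v, r < D.nroots → s < D.nroots → P r → P' s → CombRoot D T r s v → P' v := by
      intro r s v hr hs h1 h2 hv
      refine ⟨hP r s v hr hs h1 h2.1 hv, ?_⟩
      obtain ⟨hvn, i, j, hi, hj, e⟩ := hv
      intro hvk
      have h3 := hlt s hs h2
      have h4 := hfpos r hr h1
      have h5 : f (rv D T v) = (i : ℤ) * f (rv D T r) + (j : ℤ) * f (rv D T s) := by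
        rw [e, map_add, hom_smul, hom_smul]
      rw [hvk] at h5
      have hi' : (1 : ℤ) ≤ (i : ℤ) := by exact_mod_cast hi
      have hj' : (1 : ℤ) ≤ (j : ℤ) := by exact_mod_cast hj
      have hk0 := hfpos k hkn hPk
      nlinarith
    have hclosed : ClosedSet D T P' := fun r s v hr hs h1 h2 hv => hcomb r s v hr hs h1.1 h2 hv
    have hconj : ∀ (a : K) (x : E), x ∈ yGen D y P' → y k a * x * (y k a)⁻¹ ∈ yGen D y P' := by
      intro a x hx
      refine S.conj_mem hkn (fun s hs hPs hne =>
        ⟨hR k s hkn hs hne (fun e => ?_) hPk hPs.1, fun v hv => hcomb k s v hkn hs hPk hPs hv⟩) a hx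
      have h1 := hfpos s hs hPs.1
      rw [e, rv_neg S.checked hkn, map_neg] at h1
      have := hfpos k hkn hPk
      omega
    have hform : ∃ a v, v ∈ yGen D y P' ∧ g = y k a * v := by
      clear h1
      induction hg using Subgroup.closure_induction with
      | mem x hx =>
        obtain ⟨r, a, hr, hPr, rfl⟩ := hx
        by_cases e : r = k
        · subst e; exact ⟨a, 1, one_mem _, (mul_one _).symm⟩
        · exact ⟨0, y r a, mem_yGen hr ⟨hPr, e⟩ a, by rw [S.y_zero hkn, one_mul]⟩
      | one => exact ⟨0, 1, one_mem _, by rw [S.y_zero hkn, one_mul]⟩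
      | mul x z _ _ hx hz =>
        obtain ⟨a, v, hv, rfl⟩ := hx
        obtain ⟨b, w, hw, rfl⟩ := hz
        refine ⟨a + b, (y k b)⁻¹ * v * y k b * w, mul_mem ?_ hw, by rw [S.add k a b hkn]; group⟩
        have := hconj (-b) v hv
        rwa [← S.y_inv hkn, inv_inv] at this
      | inv x _ hx =>
        obtain ⟨a, v, hv, rfl⟩ := hx
        exact ⟨-a, y k a * v⁻¹ * (y k a)⁻¹, hconj a _ (inv_mem hv), by rw [← S.y_inv hkn]; group⟩
    obtain ⟨a, v, hv, rfl⟩ := hform
    rw [map_mul, S.proj k a hkn] at h1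
    obtain ⟨j, hj⟩ := exists_cv_ne_zero S.checked K hkn
    have hcoord := coord_eq_of_functional S.checked f hkn (hfpos k hkn hPk) a hlt (S.map_yGen hv) j
    rw [h1, Units.val_one, Matrix.one_apply_ne (by simp)] at hcoord
    have ha : a = 0 := (mul_eq_zero.1 hcoord.symm).resolve_left hj
    subst ha
    rw [S.y_zero hkn, one_mul]
    rw [elX_zero S.checked K hkn, one_mul] at h1
    refine ih _ ?_ hclosed (fun r s hr hs h h' hp hp' => hR r s hr hs h h' hp.1 hp'.1) hv h1
      (fun r hr hr' => hfpos r hr hr'.1) rfl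
    rw [← hn]
    refine Finset.card_lt_card (Finset.ssubset_iff_of_subset ?_ |>.2 ⟨k, hk, fun h => ((@Finset.mem_filter _ _ (_) _ _).1 h).2.2 rfl⟩)
    intro r hr
    exact (@Finset.mem_filter _ _ (_) _ _).2
      ⟨((@Finset.mem_filter _ _ (_) _ _).1 hr).1, ((@Finset.mem_filter _ _ (_) _ _).1 hr).2.1⟩

/-- elements of the group of such a set are determined by their images -/
theorem eq_of_proj {P : ℕ → Prop} (hP : ClosedSet D T P) (hR : RelOn D y P) (f : (Fin D.rank → ℤ) →+ ℤ)
    (hf : ∀ r, r < D.nroots → P r → 0 < f (rv D T r)) {g h : E} (hg : g ∈ yGen D y P) (hh : h ∈ yGen D y P)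
    (e : φ g = φ h) : g = h := by
  rw [← mul_inv_eq_one]
  exact S.inj hP hR f hf (mul_mem hg (inv_mem hh)) (by rw [map_mul, map_inv, e, mul_inv_cancel])

end Pre

namespace Sys

variable {y : ℕ → K → E} {φ : E →* GL D.Idx K} (S : Sys D T y φ)
include S

theorem relOn (P : ℕ → Prop) : RelOn D y P := fun r s hr hs h h' _ _ t u => S.rel r s t u hr hs h h'

theorem conj_eq {r s : ℕ} (hr : r < D.nroots) (hs : s < D.nroots) (hrs : s ≠ r) (hneg : s ≠ D.neg r) (t u : K) :
    y r t * y s u * (y r t)⁻¹ = y s u * wordE y (D.commWord K r s (-t) u) :=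
  S.toPre.conj_eq hr hs (fun t u => S.rel r s t u hr hs hrs hneg) t u

theorem conj_mem {r : ℕ} (hr : r < D.nroots) {P : ℕ → Prop}
    (h : ∀ s, s < D.nroots → P s → s ≠ r → (s ≠ D.neg r ∧ ∀ v, CombRoot D T r s v → P v)) (t : K)
    {g : E} (hg : g ∈ yGen D y P) : y r t * g * (y r t)⁻¹ ∈ yGen D y P :=
  S.toPre.conj_mem hr (fun s hs hP hne =>
    ⟨fun t u => S.rel r s t u hr hs hne (h s hs hP hne).1, (h s hs hP hne).2⟩) t hg

/-- `φ` is injective on the group of a closed set of roots on which a functional is positive -/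
theorem inj {P : ℕ → Prop} (hP : ClosedSet D T P) (f : (Fin D.rank → ℤ) →+ ℤ)
    (hf : ∀ r, r < D.nroots → P r → 0 < f (rv D T r)) {g : E} (hg : g ∈ yGen D y P) (h1 : φ g = 1) : g = 1 :=
  S.toPre.inj hP (S.relOn P) f hf hg h1

/-- elements of the group of such a set are determined by their images -/
theorem eq_of_proj {P : ℕ → Prop} (hP : ClosedSet D T P) (f : (Fin D.rank → ℤ) →+ ℤ)
    (hf : ∀ r, r < D.nroots → P r → 0 < f (rv D T r)) {g h : E} (hg : g ∈ yGen D y P) (hh : h ∈ yGen D y P)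
    (e : φ g = φ h) : g = h :=
  S.toPre.eq_of_proj hP (S.relOn P) f hf hg hh e

end Sys

end CfsgLib.Steinberg
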