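import Cfsg.Agent.Lib.Steinberg.Present
import Cfsg.Agent.Lib.Steinberg.CenterData
import Cfsg.Agent.Lib.Steinberg.Short

/-!
The presented group of a subsystem maps into the Chevalley group of a larger type; this detects central elements.
-/

set_option autoImplicit false
set_option linter.unusedSectionVars false

namespace CfsgLib.Steinberg

open Cfsg.Lie CfsgLib.Chev

/-- the roots of E6 among those of E7 -/
def embE6 : List ℕ := [
    6, 10, 13, 15, 16, 19, 21, 22, 24, 25, 26, 28, 29, 30, 31, 32, 35, 37, 38, 40, 41, 42, 44, 45, 46, 47, 49,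
    50, 51, 52, 54, 55, 56, 58, 59, 61, 64, 66, 67, 69, 70, 71, 73, 74, 75, 76, 78, 79, 80, 81, 83, 84, 85,
    87, 88, 90, 93, 94, 95, 96, 97, 99, 100, 101, 103, 104, 106, 109, 110, 112, 115, 119]

/-- the roots of E7 among those of E8 -/
def embE7 : List ℕ := [
    13, 20, 25, 29, 32, 34, 35, 39, 42, 44, 45, 48, 50, 51, 53, 54, 55, 58, 60, 61, 63, 64, 65, 67, 68, 69,
    70, 72, 73, 74, 75, 76, 77, 80, 82, 83, 85, 86, 87, 89, 90, 91, 92, 94, 95, 96, 97, 98, 100, 101, 102,
    103, 104, 106, 107, 108, 109, 111, 112, 113, 115, 116, 118, 121, 123, 124, 126, 127, 128, 130, 131, 132,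
    133, 135, 136, 137, 138, 139, 141, 142, 143, 144, 145, 147, 148, 149, 150, 152, 153, 154, 156, 157, 159,
    162, 163, 164, 165, 166, 167, 169, 170, 171, 172, 174, 175, 176, 178, 179, 181, 184, 185, 186, 188, 189,
    191, 194, 195, 197, 200, 204, 205, 207, 210, 214, 219, 226]

/-- one pair of roots of an embedding -/
def EmbPair (D D' : ChevalleyDatum) (io : List ℕ) (r s : ℕ) : Prop :=
  D'.chainEntry (io.getD r 0) (io.getD s 0) = (D.chainEntry r s).map fun x => (io.getD x.1 0, x.2)

instance instDecidableEmbPair (D D' : ChevalleyDatum) (io : List ℕ) (r s : ℕ) : Decidable (EmbPair D D' io r s) :=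
  inferInstanceAs (Decidable (_ = _))

/-- a list embeds the roots of `D` into those of `D'`, formulas included -/
def EmbOk (D D' : ChevalleyDatum) (io : List ℕ) : Prop :=
  D.rank ≤ D'.rank ∧ (∀ i, i < D.rank → io.getD (D.simple i) 0 = D'.simple i) ∧
    (io.take D.nroots).Nodup ∧ io.length = D.nroots ∧
    (∀ r, r < D.nroots → io.getD r 0 < D'.nroots ∧
      io.getD r 0 + io.getD (D.nroots - 1 - r) 0 + 1 = D'.nroots) ∧
    ∀ r, r < D.nroots → ∀ s, s < D.nroots → EmbPair D D' io r s

instance instDecidableEmbOk (D D' : ChevalleyDatum) (io : List ℕ) : Decidable (EmbOk D D' io) :=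
  inferInstanceAs (Decidable (_ ∧ _))

/-- a block of nine rows of pairs -/
def EmbBlock (D D' : ChevalleyDatum) (io : List ℕ) (k : ℕ) : Prop :=
  ∀ r, r < 9 → ∀ s, s < D.nroots → EmbPair D D' io (9 * k + r) s

instance instDecidableEmbBlock (D D' : ChevalleyDatum) (io : List ℕ) (k : ℕ) : Decidable (EmbBlock D D' io k) :=
  inferInstanceAs (Decidable (∀ r, r < 9 → _))

theorem embOk_of_blocks {D D' : ChevalleyDatum} {io : List ℕ} {m : ℕ} (hm : D.nroots ≤ 9 * m)
    (h1 : D.rank ≤ D'.rank ∧ (∀ i, i < D.rank → io.getD (D.simple i) 0 = D'.simple i) ∧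
      (io.take D.nroots).Nodup ∧ io.length = D.nroots ∧
      ∀ r, r < D.nroots → io.getD r 0 < D'.nroots ∧
        io.getD r 0 + io.getD (D.nroots - 1 - r) 0 + 1 = D'.nroots)
    (hb : ∀ k, k < m → EmbBlock D D' io k) : EmbOk D D' io := by
  obtain ⟨a, b, c, d, e⟩ := h1
  refine ⟨a, b, c, d, e, fun r hr s hs => ?_⟩
  have := hb (r / 9) (by omega) (r % 9) (by omega) s hs
  rwa [show 9 * (r / 9) + r % 9 = r by omega] at this

theorem embE6_block0 : EmbBlock chevE6 chevE7 embE6 0 := by decide +kernel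
theorem embE6_block1 : EmbBlock chevE6 chevE7 embE6 1 := by decide +kernel
theorem embE6_block2 : EmbBlock chevE6 chevE7 embE6 2 := by decide +kernel
theorem embE6_block3 : EmbBlock chevE6 chevE7 embE6 3 := by decide +kernel
theorem embE6_block4 : EmbBlock chevE6 chevE7 embE6 4 := by decide +kernel
theorem embE6_block5 : EmbBlock chevE6 chevE7 embE6 5 := by decide +kernel
theorem embE6_block6 : EmbBlock chevE6 chevE7 embE6 6 := by decide +kernel
theorem embE6_block7 : EmbBlock chevE6 chevE7 embE6 7 := by decide +kernel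

theorem embOkE6 : EmbOk chevE6 chevE7 embE6 :=
  embOk_of_blocks (m := 8) (by decide +kernel) (by decide +kernel) fun k hk => by
    interval_cases k
    exacts [embE6_block0, embE6_block1, embE6_block2, embE6_block3, embE6_block4, embE6_block5, embE6_block6, embE6_block7]

theorem embE7_block0 : EmbBlock chevE7 chevE8 embE7 0 := by decide +kernel
theorem embE7_block1 : EmbBlock chevE7 chevE8 embE7 1 := by decide +kernel
theorem embE7_block2 : EmbBlock chevE7 chevE8 embE7 2 := by decide +kernel
theorem embE7_block3 : EmbBlock chevE7 chevE8 embE7 3 := by decide +kernel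
theorem embE7_block4 : EmbBlock chevE7 chevE8 embE7 4 := by decide +kernel
theorem embE7_block5 : EmbBlock chevE7 chevE8 embE7 5 := by decide +kernel
theorem embE7_block6 : EmbBlock chevE7 chevE8 embE7 6 := by decide +kernel
theorem embE7_block7 : EmbBlock chevE7 chevE8 embE7 7 := by decide +kernel
theorem embE7_block8 : EmbBlock chevE7 chevE8 embE7 8 := by decide +kernel
theorem embE7_block9 : EmbBlock chevE7 chevE8 embE7 9 := by decide +kernel
theorem embE7_block10 : EmbBlock chevE7 chevE8 embE7 10 := by decide +kernel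
theorem embE7_block11 : EmbBlock chevE7 chevE8 embE7 11 := by decide +kernel
theorem embE7_block12 : EmbBlock chevE7 chevE8 embE7 12 := by decide +kernel
theorem embE7_block13 : EmbBlock chevE7 chevE8 embE7 13 := by decide +kernel

theorem embOkE7 : EmbOk chevE7 chevE8 embE7 :=
  embOk_of_blocks (m := 14) (by decide +kernel) (by decide +kernel) fun k hk => by
    interval_cases k
    exacts [embE7_block0, embE7_block1, embE7_block2, embE7_block3, embE7_block4, embE7_block5, embE7_block6, embE7_block7, embE7_block8, embE7_block9, embE7_block10, embE7_block11, embE7_block12, embE7_block13]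

theorem embSumE6 : ¬((centerE6.d : ℤ) ∣ ∑ i : Fin chevE6.rank, centerE6.w.getD i.val 0 * chevE7.cartan i.val (chevE7.simple 6)) := by
  decide +kernel

theorem embSumE7 : ¬((centerE7.d : ℤ) ∣ ∑ i : Fin chevE7.rank, centerE7.w.getD i.val 0 * chevE8.cartan i.val (chevE8.simple 7)) := by
  decide +kernel

variable {D D' : ChevalleyDatum} {T T' : Tabs} {K : Type*} [Field K] {io : List ℕ}

/-- the homomorphism into the larger group -/
theorem exists_embHom (S : Setup D T) (S' : Setup D' T') (hd : ShortChains D) (hd' : ShortChains D')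
    (h : EmbOk D D' io) :
    ∃ ν : D.SteinbergCover K →* GL D'.Idx K,
      ∀ r t, r < D.nroots → ν (D.scGen K r t) = elX D' K (io.getD r 0) t := by
  obtain ⟨-, -, hnd, hlen, hio, hpairs⟩ := h
  have hinj : ∀ r s, r < D.nroots → s < D.nroots → io.getD r 0 = io.getD s 0 → r = s := by
    intro r s hr hs e
    rw [List.take_of_length_le (le_of_eq hlen)] at hnd
    rw [List.getD_eq_getElem _ _ (hlen ▸ hr), List.getD_eq_getElem _ _ (hlen ▸ hs)] at e
    exact (hnd.getElem_inj_iff).1 e
  set F := FreeGroup.lift fun p : Fin D.nroots × K => elX D' K (io.getD p.1.val 0) p.2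
  have hx : ∀ r t, r < D.nroots → F (D.stX r t) = elX D' K (io.getD r 0) t := fun r t hr => by
    rw [ChevalleyDatum.stX, dif_pos hr]; exact FreeGroup.lift_apply_of
  have hw : ∀ w : List (ℕ × K), (∀ p ∈ w, p.1 < D.nroots) →
      F (D.stWord w) = wordGL D' K (w.map fun p => (io.getD p.1 0, p.2)) := fun w hw => by
    rw [ChevalleyDatum.stWord, wordGL, map_list_prod, List.map_map, List.map_map]
    exact congrArg List.prod (List.map_congr_left fun p hp => hx _ _ (hw p hp))
  have hrel : ∀ g ∈ D.steinbergRelsAB K, F g = 1 := by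
    rintro g (⟨r, t₁, t₂, hr, rfl⟩ | ⟨r, s, t, u, hr, hs, hrs, hneg, rfl⟩)
    · rw [map_mul, map_mul, map_inv, hx _ _ hr, hx _ _ hr, hx _ _ hr, elX_add S'.checked K (hio r hr).1,
        mul_inv_cancel]
    · obtain ⟨hr', hn'⟩ := hio r hr
      have e1 : io.getD s 0 ≠ io.getD r 0 := fun e => hrs (hinj s r hs hr e)
      have e2 : io.getD s 0 ≠ D'.neg (io.getD r 0) := fun e => by
        refine hneg (hinj s (D.neg r) hs (neg_lt S.checked hr) ?_)
        rw [e, neg_eq S'.checked hr', neg_eq S.checked hr, show D.nroots - (r + 1) = D.nroots - 1 - r by omega]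
        omega
      have e3 : D'.commTerms (io.getD r 0) (io.getD s 0) =
          (D.commTerms r s).map fun x => (io.getD x.1 0, x.2.1, x.2.2.1, x.2.2.2) := by
        rw [commTerms_eq_chainEntry hd', commTerms_eq_chainEntry hd, hpairs r hr s hs, List.map_map, List.map_map]
        rfl
      rw [map_mul, map_mul, map_mul, map_mul, map_inv, map_inv, map_inv, hx _ _ hr, hx _ _ hs,
        hw _ (fun p hp => (commWord_mem S.checked hr hs t u p hp).1)]
      rw [show ∀ A B W : GL D'.Idx K, A⁻¹ * B⁻¹ * A * B * W⁻¹ = A⁻¹ * B⁻¹ * (A * B) * W⁻¹ from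
        fun A B W => by group, elX_comm S'.checked S'.comm hr' (hio s hs).1 e1 e2 t u,
        show D'.commWord K (io.getD r 0) (io.getD s 0) t u =
          (D.commWord K r s t u).map fun p => (io.getD p.1 0, p.2) by
          rw [ChevalleyDatum.commWord, ChevalleyDatum.commWord, e3, List.map_map, List.map_map]; rfl]
      group
  exact ⟨PresentedGroup.toGroup hrel, fun r t hr => hx r t hr⟩

/-- a central element of the presented group surviving in the larger group -/
theorem exists_ker_ne_one [Finite K] (S : Setup D T) (S' : Setup D' T') (hd : ShortChains D) (hd' : ShortChains D')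
    (h : EmbOk D D' io) {C : CenterData}
    (hC : CenterOk D C) {z : Kˣ} (hz : z ^ C.d = 1) {j : Fin D'.rank}
    (hj : z ^ (∑ i : Fin D.rank, C.w.getD i.val 0 * D'.cartan i.val (D'.simple j.val)) ≠ 1) :
    ∃ g : D.SteinbergCover K, coverHom K S g = 1 ∧ g ≠ 1 := by
  have Sc := coverSys K S
  set c : Fin D.rank → Kˣ := fun k => z ^ C.w.getD k.val 0 with hcdef
  refine ⟨Sc.hTorus (cover_top K) c, by rw [Sc.proj_hTorus, hPar_rootOfUnity hC hz, map_one], fun hg => hj ?_⟩
  obtain ⟨ν, hν⟩ := exists_embHom (K := K) S S' hd hd' h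
  obtain ⟨hrank, hsimp, -, -, hio, -⟩ := h
  set E : Fin D.rank → Fin D'.rank := fun i => ⟨i.val, lt_of_lt_of_le i.2 hrank⟩
  have hN : ∀ (i : Fin D.rank) (t : K), ν (nE D (D.scGen K) (D.simple i) t) = elN D' K (D'.simple i) t := fun i t => by
    have hp := simple_lt S.checked i.2
    have hneg : io.getD (D.neg (D.simple i)) 0 = D'.neg (D'.simple i) := by
      obtain ⟨hlt, hsum⟩ := hio _ hp
      rw [hsimp i.val i.2] at hlt hsum
      rw [neg_eq S.checked hp, neg_eq S'.checked hlt,
        show D.nroots - (D.simple i + 1) = D.nroots - 1 - D.simple i by omega]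
      omega
    simp only [nE, elN, map_mul, hν _ _ hp, hν _ _ (neg_lt S.checked hp), hneg, hsimp i.val i.2]
  let F : (Fin D.rank → Kˣ) →* (Fin D'.rank → Kˣ) :=
    MonoidHom.mk' (fun c j => ∏ i, c i ^ cm D' (E i) j) fun a b => by
      funext j; simp [mul_zpow, Finset.prod_mul_distrib]
  have key : (⊤ : Subgroup (Fin D.rank → Kˣ)) ≤
      (ν.comp (Sc.hTorus (cover_top K))).eqLocus ((torus D' T' K).comp F) := by
    intro b _
    rw [← Finset.univ_prod_mulSingle b]
    refine Subgroup.prod_mem _ fun i _ => ?_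
    show ν (Sc.hTorus (cover_top K) (Pi.mulSingle i (b i))) = torus D' T' K (F (Pi.mulSingle i (b i)))
    rw [Sc.hTorus_single, hE, map_mul, hN, hN, show ∀ p t, elN D' K p t * elN D' K p (-1) = elH D' K p t from
      fun _ _ => rfl, elH_eq_torus S'.checked (simple_lt S'.checked (E i).2)]
    congr 1
    funext k
    show _ = ∏ l, (Pi.mulSingle i (b i) : Fin D.rank → Kˣ) l ^ cm D' (E l) k
    rw [Finset.prod_eq_single i (fun l _ hl => by rw [Pi.mulSingle_eq_of_ne hl, one_zpow]) (by simp),
      Pi.mulSingle_eq_same, corChar, Finset.sum_eq_single (E i)]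
    · rw [cv_simple S'.checked (E i).2 (E i).2, if_pos rfl, one_mul]
    · intro l _ hl
      rw [cv_simple S'.checked (E i).2 l.2, if_neg (fun e => hl (Fin.ext e.symm)), zero_mul]
    · simp
  have h1 : ν (Sc.hTorus (cover_top K) c) = torus D' T' K (F c) := key (Subgroup.mem_top c)
  rw [hg, map_one, ← map_one (torus D' T' K)] at h1
  have h2 : F c j = 1 := by rw [← torus_injective S'.checked h1]; rfl
  change ∏ i, (z ^ C.w.getD i.val 0) ^ cm D' (E i) j = 1 at h2
  simp only [← zpow_mul, prod_zpow_sum] at h2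
  exact h2

/-- the kernel of the pairing map, when its possible order is a prime seen in a larger group -/
theorem nonempty_ker_equiv [Fintype K] (S : Setup D T) (S' : Setup D' T') (hd : ShortChains D) (hd' : ShortChains D')
    (h : EmbOk D D' io) {C : CenterData} (hC : CenterOk D C) (hp : C.d.Prime) {j : Fin D'.rank}
    (hj : ¬(C.d : ℤ) ∣ ∑ i : Fin D.rank, C.w.getD i.val 0 * D'.cartan i.val (D'.simple j.val))
    (θ : D.SteinbergCover K →* ↥(D.group K))
    (hθ : ∀ g, ((θ g : ↥(D.group K)) : GL D.Idx K) = coverHom K S g) :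
    Nonempty (θ.ker ≃* Multiplicative (ZMod (Nat.gcd C.d (Fintype.card K - 1)))) := by
  haveI := Fact.mk hp
  have Sc := coverSys K S
  have hker : ∀ g ∈ θ.ker, ∃ z : Kˣ, z ^ C.d = 1 ∧
      g = Sc.hTorus (cover_top K) fun k => z ^ C.w.getD k.val 0 := fun g hg => by
    have h1 : coverHom K S g = 1 := by rw [← hθ, MonoidHom.mem_ker.1 hg]; rfl
    obtain ⟨c, hc, rfl⟩ := Sc.ker_torus (cover_top K) h1
    obtain ⟨z, hz, rfl⟩ := ker_hPar hC hc
    exact ⟨z, hz, rfl⟩
  rcases Nat.coprime_or_dvd_of_prime hp (Fintype.card K - 1) with hcop | hdvd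
  · rw [hcop.gcd_eq_one]
    have htriv : ∀ g : θ.ker, g = 1 := by
      rintro ⟨g, hg⟩
      obtain ⟨z, hz, rfl⟩ := hker g hg
      have hz1 : z = 1 := orderOf_eq_one_iff.1 (Nat.eq_one_of_dvd_coprimes hcop (orderOf_dvd_of_pow_eq_one hz)
        (by have := orderOf_dvd_natCard z; rwa [Nat.card_units, Nat.card_eq_fintype_card] at this))
      refine Subtype.ext ?_
      simp only [hz1, one_zpow]
      exact map_one _
    haveI : Unique θ.ker := ⟨⟨1⟩, htriv⟩
    haveI : Unique (Multiplicative (ZMod 1)) := ⟨⟨1⟩, fun a => Subsingleton.elim a 1⟩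
    exact ⟨MulEquiv.ofUnique⟩
  · rw [Nat.gcd_eq_left hdvd]
    obtain ⟨z0, hz0⟩ := exists_prime_orderOf_dvd_card' (G := Kˣ) C.d
      (by rw [Nat.card_units, Nat.card_eq_fintype_card]; exact hdvd)
    have hj' : z0 ^ (∑ i : Fin D.rank, C.w.getD i.val 0 * D'.cartan i.val (D'.simple j.val)) ≠ 1 := fun e =>
      hj (hz0 ▸ orderOf_dvd_iff_zpow_eq_one.2 e)
    obtain ⟨g, hg1, hg⟩ := exists_ker_ne_one S S' hd hd' h hC (hz0 ▸ pow_orderOf_eq_one z0) hj'
    set u : D.SteinbergCover K := Sc.hTorus (cover_top K) fun k => z0 ^ C.w.getD k.val 0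
    have hprim : IsPrimitiveRoot z0 C.d := hz0 ▸ IsPrimitiveRoot.orderOf z0
    have hgen : ∀ x ∈ θ.ker, x ∈ Subgroup.zpowers u := fun x hx => by
      obtain ⟨z, hz, rfl⟩ := hker x hx
      have : z ∈ Subgroup.zpowers z0 := by
        rw [hprim.zpowers_eq]; exact (mem_rootsOfUnity _ _).2 hz
      obtain ⟨m, rfl⟩ := Subgroup.mem_zpowers_iff.1 this
      refine ⟨m, ?_⟩
      show u ^ m = _
      rw [← map_zpow]
      congr 1
      funext k
      rw [Pi.pow_apply, ← zpow_mul, ← zpow_mul, mul_comm]
    have hu1 : θ u = 1 := Subtype.ext (by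
      rw [hθ, show coverHom K S u = torus D T K (hPar D K fun k => z0 ^ C.w.getD k.val 0) from
        Sc.proj_hTorus (cover_top K) _, hPar_rootOfUnity hC (hz0 ▸ pow_orderOf_eq_one z0), map_one]; rfl)
    have hker' : θ.ker = Subgroup.zpowers u :=
      le_antisymm hgen ((Subgroup.zpowers_le).2 (MonoidHom.mem_ker.2 hu1))
    have hu : orderOf u = C.d := by
      refine orderOf_eq_prime ?_ fun e => hg ?_
      · rw [← map_pow]
        refine (congrArg _ ?_).trans (map_one _)
        funext k
        have hd1 : z0 ^ C.d = 1 := hz0 ▸ pow_orderOf_eq_one z0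
        rw [Pi.pow_apply, Pi.one_apply, ← zpow_natCast, ← zpow_mul, mul_comm, zpow_mul, zpow_natCast, hd1, one_zpow]
      · have := hgen g (MonoidHom.mem_ker.2 (Subtype.ext (by rw [hθ, hg1]; rfl)))
        rwa [e, Subgroup.zpowers_one_eq_bot, Subgroup.mem_bot] at this
    have hcard : Nat.card θ.ker = C.d := by rw [hker', Nat.card_zpowers, hu]
    haveI : IsCyclic θ.ker := isCyclic_of_prime_card hcard
    exact ⟨((zmodCyclicMulEquiv ‹IsCyclic θ.ker›).symm.trans (by rw [hcard]))⟩

end CfsgLib.Steinberg
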