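import Cfsg.Agent.Lib.Steinberg.GroupTorus
import Cfsg.Prelude.Def_LieTypes
import Cfsg.Prelude.Def_ChevB2

/-!
The centre of the presented group is trivial for G2, F4 and E8.
-/

set_option autoImplicit false

namespace CfsgLib.Steinberg

open Cfsg.Lie CfsgLib.Chev

/-- the test: `C'` is the inverse of the Cartan matrix -/
def invTest (D : ChevalleyDatum) (C' : List (List ℤ)) : Bool :=
  decide (∀ i k : Fin D.rank,
    ((List.finRange D.rank).map fun j => cm D i j * ((C'.getD j.1 []).getD k.1 0)).sum =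
      if i = k then 1 else 0)

theorem invTestG2 : invTest chevG2 [[2, 3], [1, 2]] = true := by decide +kernel

theorem invTestF4 : invTest chevF4 [[2, 3, 4, 2], [3, 6, 8, 4], [2, 4, 6, 3], [1, 2, 3, 2]] = true := by decide +kernel

theorem invTestE8 : invTest chevE8 [[4, 5, 7, 10, 8, 6, 4, 2], [5, 8, 10, 15, 12, 9, 6, 3], [7, 10, 14, 20, 16, 12, 8, 4], [10, 15, 20, 30, 24, 18, 12, 6], [8, 12, 16, 24, 20, 15, 10, 5], [6, 9, 12, 18, 15, 12, 8, 4], [4, 6, 8, 12, 10, 8, 6, 3], [2, 3, 4, 6, 5, 4, 3, 2]] = true := by decide +kernel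

/-- the centre is trivial for G2, F4 and E8 -/
theorem center_trivial {K : Type*} [Field K] (D : ChevalleyDatum)
    (hD : D ∈ [chevG2, chevF4, chevE8]) : Subgroup.center (D.SteinbergGroup K) = ⊥ := by
  obtain ⟨T, S⟩ := exists_setup (D := D) (by
    simp only [List.mem_cons, List.not_mem_nil, or_false] at hD ⊢; tauto)
  simp only [List.mem_cons, List.not_mem_nil, or_false] at hD
  rcases hD with rfl | rfl | rfl
  · exact center_eq_bot S _ (of_decide_eq_true invTestG2)
  · exact center_eq_bot S _ (of_decide_eq_true invTestF4)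
  · exact center_eq_bot S _ (of_decide_eq_true invTestE8)

end CfsgLib.Steinberg
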