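import Cfsg.Agent.Lib.Steinberg.Bruhat
import Mathlib.GroupTheory.NoncommPiCoprod

/-!
Over a finite field the kernel of the projection consists of products of h_p(c), with c killed by the pairing.
-/

set_option autoImplicit false
set_option linter.unusedSectionVars false

namespace CfsgLib.Steinberg

open Cfsg.Lie CfsgLib.Chev

variable {D : ChevalleyDatum} {T : Tabs} {K : Type*} [Field K] [Finite K] {E : Type*} [Group E]

/-- the product of n_p(1) over a list of fundamental roots, in E -/
def nList (D : ChevalleyDatum) (y : ℕ → K → E) (L : List (Fin D.rank)) : E :=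
  (L.map fun i => nE D y (D.simple i.val) (1 : K)).prod

namespace Sys

variable {y : ℕ → K → E} {φ : E →* GL D.Idx K} (S : Sys D T y φ) (gen : yGen D y (fun _ => True) = ⊤)
include S gen

/-- the h_p(t) of different fundamental roots commute -/
theorem hE_commute_simple (i j : Fin D.rank) (t u : Kˣ) :
    Commute (hE D y (D.simple i) (t : K)) (hE D y (D.simple j) (u : K)) := by
  have hq := simple_lt S.checked j.2
  have h1 := S.conj_hE (simple_lt S.checked i.2) t
  set g := hE D y (D.simple i) (t : K)
  set a : Kˣ := chi (corChar D T (D.simple i) t) (rv D T (D.simple j))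
  have hn : ∀ v : K, g * nE D y (D.simple j) v * g⁻¹ = nE D y (D.simple j) ((a : K) * v) := fun v => by
    rw [nE, show ∀ G A B C : E, G * (A * B * C) * G⁻¹ = (G * A * G⁻¹) * (G * B * G⁻¹) * (G * C * G⁻¹) from
      fun _ _ _ _ => by group, h1 _ _ hq, h1 _ _ (neg_lt S.checked hq), nE]
    simp only [rv_neg S.checked hq, chi_neg]
    congr 2
    simp [a, mul_inv, mul_comm]
  have key : g * hE D y (D.simple j) (u : K) * g⁻¹ = hE D y (D.simple j) (u : K) := by
    rw [hE, show ∀ G A B : E, G * (A * B) * G⁻¹ = (G * A * G⁻¹) * (G * B * G⁻¹) from fun _ _ _ => by group,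
      hn, hn, S.hE_mul_hE_inv hq, mul_neg, mul_one, neg_neg, ← Units.val_mul, mul_comm a u, S.hE_mul gen hq,
      mul_inv_cancel_right]
    rfl
  exact mul_inv_eq_iff_eq_mul.1 key

/-- h_p as a homomorphism, p fundamental -/
noncomputable def hHom (i : Fin D.rank) : Kˣ →* E :=
  MonoidHom.mk' (fun t => hE D y (D.simple i) (t : K)) fun t u => S.hE_mul gen (simple_lt S.checked i.2) t u

/-- the torus of E -/
noncomputable def hTorus : (Fin D.rank → Kˣ) →* E :=
  MonoidHom.noncommPiCoprod (S.hHom gen) fun i j _ t u => S.hE_commute_simple gen i j t u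

theorem hTorus_single (i : Fin D.rank) (t : Kˣ) :
    S.hTorus gen (Pi.mulSingle i t) = hE D y (D.simple i) (t : K) :=
  MonoidHom.noncommPiCoprod_mulSingle (N := fun _ : Fin D.rank => Kˣ) (S.hHom gen) i t

theorem proj_hTorus (c : Fin D.rank → Kˣ) : φ (S.hTorus gen c) = torus D T K (hPar D K c) := by
  have key : (⊤ : Subgroup (Fin D.rank → Kˣ)) ≤
      (φ.comp (S.hTorus gen)).eqLocus ((torus D T K).comp (hPar D K)) := by
    intro c _
    rw [← Finset.univ_prod_mulSingle c]
    refine Subgroup.prod_mem _ fun i _ => ?_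
    show φ (S.hTorus gen (Pi.mulSingle i (c i))) = torus D T K (hPar D K (Pi.mulSingle i (c i)))
    rw [hTorus_single, S.proj_hE (simple_lt S.checked i.2), hPar_eq_corChar S.checked, Finset.prod_eq_single i,
      Pi.mulSingle_eq_same]
    · intro k _ hk; rw [Pi.mulSingle_eq_of_ne hk, corChar_one]
    · simp
  exact key (Subgroup.mem_top c)

theorem hE_mem_range (i : Fin D.rank) (t : Kˣ) : hE D y (D.simple i) (t : K) ∈ (S.hTorus gen).range :=
  ⟨_, S.hTorus_single gen i t⟩

theorem nE_eq (i : Fin D.rank) (t : Kˣ) :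
    nE D y (D.simple i) (t : K) = hE D y (D.simple i) (t : K) * nE D y (D.simple i) (1 : K) := by
  have hp := simple_lt S.checked i.2
  rw [hE, mul_assoc, show nE D y (D.simple i) (1 : K) = (nE D y (D.simple i) (-1 : K))⁻¹ by
    rw [S.nE_inv hp, neg_neg], mul_inv_cancel, mul_one]

theorem nE_sq (i : Fin D.rank) :
    nE D y (D.simple i) (1 : K) * nE D y (D.simple i) (1 : K) ∈ (S.hTorus gen).range := by
  have h := inv_mem (S.hE_mem_range gen i (-1))
  rw [hE, Units.val_neg, Units.val_one, mul_inv_rev, S.nE_inv (simple_lt S.checked i.2), neg_neg] at h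
  exact h

/-- n_p(1) normalises the torus -/
theorem nOne_conj_range (i : Fin D.rank) {h : E} (hh : h ∈ (S.hTorus gen).range) :
    nE D y (D.simple i) (1 : K) * h * (nE D y (D.simple i) (1 : K))⁻¹ ∈ (S.hTorus gen).range := by
  obtain ⟨c, rfl⟩ := hh
  have hp := simple_lt S.checked i.2
  set N := nE D y (D.simple i) (1 : K)
  refine Subgroup.mem_comap.1 (show c ∈ Subgroup.comap (S.hTorus gen)
    (Subgroup.comap (MulAut.conj N).toMonoidHom (S.hTorus gen).range) from ?_)
  rw [← Finset.univ_prod_mulSingle c]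
  refine Subgroup.prod_mem _ fun j _ => ?_
  rw [Subgroup.mem_comap, Subgroup.mem_comap, hTorus_single]
  show N * hE D y (D.simple j) (c j : K) * N⁻¹ ∈ _
  set g := hE D y (D.simple j) (c j : K)
  have h1 := S.conj_hE (simple_lt S.checked j.2) (c j)
  set a : Kˣ := chi (corChar D T (D.simple j) (c j)) (rv D T (D.simple i))
  have hn : g * N * g⁻¹ = nE D y (D.simple i) (a : K) := by
    simp only [N, nE]
    rw [show ∀ G A B C : E, G * (A * B * C) * G⁻¹ = (G * A * G⁻¹) * (G * B * G⁻¹) * (G * C * G⁻¹) from
      fun _ _ _ _ => by group, h1 _ _ hp, h1 _ _ (neg_lt S.checked hp)]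
    simp only [rv_neg S.checked hp, chi_neg]
    simp [a]
  rw [S.nE_eq gen i a] at hn
  have e : N * g * N⁻¹ = (hE D y (D.simple i) (a : K))⁻¹ * g := by
    rw [show N * g * N⁻¹ = (g⁻¹ * (g * N * g⁻¹) * N⁻¹)⁻¹ by group, hn]
    simp only [N]
    group
  rw [e]
  exact mul_mem (inv_mem (S.hE_mem_range gen i a)) (S.hE_mem_range gen j _)

theorem nList_conj_range (L : List (Fin D.rank)) {h : E} (hh : h ∈ (S.hTorus gen).range) :
    nList D y L * h * (nList D y L)⁻¹ ∈ (S.hTorus gen).range := by
  induction L with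
  | nil => simpa [nList] using hh
  | cons i L ih =>
    rw [nList, List.map_cons, List.prod_cons, ← nList,
      show ∀ n m x : E, n * m * x * (n * m)⁻¹ = n * (m * x * m⁻¹) * n⁻¹ from fun n m x => by group]
    exact S.nOne_conj_range gen i ih

theorem monGrp_cases {g : E} (hg : g ∈ monGrp D y) :
    ∃ h ∈ (S.hTorus gen).range, ∃ L, g = h * nList D y L := by
  have gen1 : ∀ (i : Fin D.rank) (t : Kˣ),
      ∃ h ∈ (S.hTorus gen).range, ∃ L, nE D y (D.simple i) (t : K) = h * nList D y L := fun i t =>
    ⟨_, S.hE_mem_range gen i t, [i], by simp [nList, ← S.nE_eq gen i t]⟩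
  induction hg using Subgroup.closure_induction'' with
  | mem x hx => obtain ⟨i, t, rfl⟩ := hx; exact gen1 i t
  | inv_mem x hx =>
    obtain ⟨i, t, rfl⟩ := hx
    rw [S.nE_inv (simple_lt S.checked i.2), ← Units.val_neg]
    exact gen1 i (-t)
  | one => exact ⟨1, one_mem _, [], by simp [nList]⟩
  | mul a b _ _ ha hb =>
    obtain ⟨h, hh, L, rfl⟩ := ha
    obtain ⟨k, hk, M, rfl⟩ := hb
    refine ⟨h * (nList D y L * k * (nList D y L)⁻¹), mul_mem hh (S.nList_conj_range gen L hk), L ++ M, ?_⟩
    rw [show nList D y (L ++ M) = nList D y L * nList D y M by simp [nList]]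
    group

theorem proj_nList (L : List (Fin D.rank)) : φ (nList D y L) = nProd D K L := by
  rw [nList, nProd, map_list_prod, List.map_map]
  exact congrArg List.prod (List.map_congr_left fun i _ => S.proj_nE (simple_lt S.checked i.2) 1)

theorem nList_conj_pair (L : List (Fin D.rank)) {r : ℕ} (hr : r < D.nroots) :
    ∃ c : Kˣ, ((c : K) = 1 ∨ (c : K) = -1) ∧
      ∀ t : K, nList D y L * y r t * (nList D y L)⁻¹ = y (sigs D T L r) ((c : K) * t) ∧
        nList D y L * y (D.neg r) t * (nList D y L)⁻¹ = y (D.neg (sigs D T L r)) ((c : K) * t) := by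
  induction L with
  | nil => exact ⟨1, Or.inl rfl, fun t => by simp [nList, sigs]⟩
  | cons i L ih =>
    obtain ⟨c, hc1, h⟩ := ih
    have hu := sigs_lt S.checked L hr
    obtain ⟨d, hd, hdv⟩ := S.conj_nE i 1
    rw [Units.val_one] at hd
    have dv : ∀ v, v < D.nroots → (d v : K) = (eta D T i v : K) := fun v hv => by
      rw [hdv v hv, corChar_one, chi_one, Units.val_one, one_mul]
    refine ⟨d (sigs D T L r) * c, ?_, fun t => ?_⟩
    · rw [Units.val_mul, dv _ hu]
      rcases eta_cast S.checked (F := K) i hu with e | e <;> rcases hc1 with g | g <;> simp [e, g]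
    · have hh : ∀ n m x : E, n * m * x * (n * m)⁻¹ = n * (m * x * m⁻¹) * n⁻¹ := fun n m x => by group
      rw [nList, List.map_cons, List.prod_cons, ← nList, hh, hh, (h t).1, (h t).2, hd _ _ hu,
        hd _ _ (neg_lt S.checked hu), sig_neg S.checked i hu, sigs_cons, Units.val_mul, dv _ hu,
        dv _ (neg_lt S.checked hu), eta_neg S.checked i hu, mul_assoc]
      exact ⟨rfl, rfl⟩

/-- the exchange property in E -/
theorem exchange_range (L : List (Fin D.rank)) (i : Fin D.rank)
    (hneg : sigs D T L (D.simple i.val) < D.nroots / 2) :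
    ∃ L' : List (Fin D.rank), L'.length + 1 = L.length ∧
      nList D y (L ++ [i]) * (nList D y L')⁻¹ ∈ (S.hTorus gen).range := by
  have hc := S.checked
  have hpi := simple_lt hc i.2
  induction L with
  | nil => have := half_le_simple hc i.2; simp [sigs] at hneg; omega
  | cons j L ih =>
    by_cases h : sigs D T L (D.simple i.val) < D.nroots / 2
    · obtain ⟨L', h1, h3⟩ := ih h
      refine ⟨j :: L', by simp [h1], ?_⟩
      simp only [nList, List.cons_append, List.map_cons, List.prod_cons] at h3 ⊢
      rw [show ∀ n a b : E, n * a * (n * b)⁻¹ = n * (a * b⁻¹) * n⁻¹ from fun n a b => by group]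
      exact S.nOne_conj_range gen j h3
    · have hu := sigs_lt hc L hpi (T := T)
      have hj : sigs D T L (D.simple i.val) = D.simple j.val := by
        by_contra hne
        rw [sigs_cons] at hneg
        have := (sig_pos hc j hu (by omega) hne).1
        omega
      refine ⟨L, by simp, ?_⟩
      obtain ⟨c, hc1, hcx⟩ := S.nList_conj_pair gen L hpi
      rw [hj] at hcx
      have hm : nList D y L * nE D y (D.simple i.val) (1 : K) * (nList D y L)⁻¹ = nE D y (D.simple j.val) (c : K) := by
        rw [nE, show ∀ m a b e : E, m * (a * b * e) * m⁻¹ = (m * a * m⁻¹) * (m * b * m⁻¹) * (m * e * m⁻¹)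
          from fun m a b e => by group, (hcx 1).1, (hcx _).2, nE]
        congr 2 <;> rcases hc1 with e | e <;> simp [e]
      set N := nE D y (D.simple j.val) (1 : K) with hN
      have e : nList D y (j :: L ++ [i]) * (nList D y L)⁻¹ =
          (N * hE D y (D.simple j.val) (c : K) * N⁻¹) * (N * N) := by
        rw [show nList D y (j :: L ++ [i]) = N * (nList D y L * nE D y (D.simple i.val) (1 : K)) by
          simp [nList, hN, mul_assoc], mul_assoc, hm, S.nE_eq gen j c, ← hN]
        group
      rw [e]
      exact mul_mem (S.nOne_conj_range gen j (S.hE_mem_range gen j c)) (S.nE_sq gen j)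

theorem nList_mem_range (L : List (Fin D.rank)) (h : nProd D K L ∈ D.diagonalSubgroup K) :
    nList D y L ∈ (S.hTorus gen).range := by
  induction hd : L.length using Nat.strong_induction_on generalizing L with
  | _ d ih =>
    rcases List.eq_nil_or_concat L with rfl | ⟨M, i, rfl⟩
    · exact one_mem _
    rw [List.concat_eq_append] at hd h ⊢
    have hp := simple_lt S.checked i.2
    have hfix : sigs D T (M ++ [i]) (D.simple i.val) = sigs D T [] (D.simple i.val) :=
      sigs_eq_of_mem S.checked (by simpa using h) hp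
    rw [sigs_append, show sigs D T [i] (D.simple i.val) = sig D T i (D.simple i.val) from rfl,
      sig_simple S.checked, sigs_neg S.checked M hp] at hfix
    have hneg : sigs D T M (D.simple i.val) < D.nroots / 2 := by
      have h1 := congrArg D.neg hfix
      rw [neg_neg_root S.checked (sigs_lt S.checked M hp), neg_eq S.checked (show sigs D T [] (D.simple i.val) < D.nroots from hp)] at h1
      rw [h1, show sigs D T [] (D.simple i.val) = D.simple i.val from rfl]
      have := half_le_simple S.checked i.2; have := nroots_eq_two_mul S.checked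
      omega
    obtain ⟨L', h1, h2⟩ := S.exchange_range gen M i hneg
    obtain ⟨k, hk⟩ := h2
    have hL' : nProd D K L' ∈ D.diagonalSubgroup K := by
      have e := congrArg φ hk
      rw [S.proj_hTorus gen, map_mul, map_inv, S.proj_nList gen, S.proj_nList gen, eq_mul_inv_iff_mul_eq] at e
      rw [← inv_mul_cancel_left (torus D T K (hPar D K k)) (nProd D K L'), e]
      exact mul_mem (inv_mem ((mem_diagonal S.checked).2 ⟨k, rfl⟩)) h
    have hlen : L'.length < d := by simp at hd; omega
    have := mul_mem (MonoidHom.mem_range.2 ⟨k, hk⟩) (ih _ hlen L' hL' rfl)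
    rwa [inv_mul_cancel_right] at this

/-- the kernel of the projection -/
theorem ker_torus {g : E} (hg : φ g = 1) : ∃ c, hPar D K c = 1 ∧ g = S.hTorus gen c := by
  obtain ⟨h, ⟨b, rfl⟩, L, rfl⟩ := S.monGrp_cases gen (S.ker_le gen hg).1
  have hL : nProd D K L ∈ D.diagonalSubgroup K := by
    rw [map_mul, S.proj_hTorus gen, S.proj_nList gen] at hg
    rw [eq_inv_of_mul_eq_one_right hg]
    exact inv_mem ((mem_diagonal S.checked).2 ⟨b, rfl⟩)
  obtain ⟨a, ha⟩ := S.nList_mem_range gen L hL
  refine ⟨b * a, ?_, by rw [map_mul, ha]⟩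
  rw [← ha, ← map_mul, S.proj_hTorus gen, ← map_one (torus D T K)] at hg
  exact torus_injective S.checked hg

/-- E is finite -/
theorem finite_of_gen : Finite E := by
  haveI : Finite φ.ker := by
    refine Finite.of_surjective
      (fun c : {c : Fin D.rank → Kˣ // hPar D K c = 1} =>
        (⟨S.hTorus gen c.1, by rw [MonoidHom.mem_ker, S.proj_hTorus gen, c.2, map_one]⟩ : φ.ker)) ?_
    rintro ⟨g, hg⟩
    obtain ⟨c, hc, e⟩ := S.ker_torus gen hg
    exact ⟨⟨c, hc⟩, Subtype.ext e.symm⟩
  haveI : Finite (E ⧸ φ.ker) := Finite.of_equiv φ.range (QuotientGroup.quotientKerEquivRange φ).symm.toEquiv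
  exact Finite.of_equiv _ (Subgroup.groupEquivQuotientProdSubgroup (s := φ.ker)).symm

end Sys

end CfsgLib.Steinberg
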