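import Cfsg.Agent.Lib.Steinberg.CenterData
import Cfsg.Agent.Lib.Steinberg.Lift.Big
import Cfsg.Agent.Lib.SLCover.Universal

/-!
Schur multipliers from the splitting of central extensions of the presented group.
-/

set_option autoImplicit false
set_option linter.unusedSectionVars false

universe u w

namespace CfsgLib.Steinberg

open Cfsg.Lie CfsgLib.Chev
open scoped commutatorElement

variable {D : ChevalleyDatum} {T : Tabs} {K : Type u} [Field K]

/-- every central extension of the presented group splits -/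
def CoverSplits (D : ChevalleyDatum) (K : Type u) [Field K] : Prop :=
  ∀ (E : Type u) [Group E] (p : E →* D.SteinbergCover K), Function.Surjective p → p.ker ≤ Subgroup.center E →
    ∃ s : D.SteinbergCover K →* E, p.comp s = MonoidHom.id _

/-- a split central extension by a perfect group is an isomorphism -/
theorem injective_of_split {E G : Type*} [Group E] [Group G] (p : E →* G) (hc : p.ker ≤ Subgroup.center E)
    (hE : commutator E = ⊤) {s : G →* E} (hs : p.comp s = MonoidHom.id G) : Function.Injective p := by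
  have hps : ∀ g, p (s g) = g := DFunLike.congr_fun hs
  have key : commutator E ≤ s.range := by
    rw [commutator_def, Subgroup.commutator_le]
    intro a _ b _
    have d : ∀ x : E, ∃ z ∈ Subgroup.center E, x = s (p x) * z := fun x =>
      ⟨(s (p x))⁻¹ * x, hc (by rw [MonoidHom.mem_ker, map_mul, map_inv, hps, inv_mul_cancel]), by group⟩
    obtain ⟨z, hz, ea⟩ := d a
    obtain ⟨w, hw, eb⟩ := d b
    refine ⟨⁅p a, p b⁆, ?_⟩
    have hz' := fun g => Subgroup.mem_center_iff.1 hz g
    have hw' := fun g => Subgroup.mem_center_iff.1 hw g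
    rw [map_commutatorElement]
    conv_rhs => rw [ea, eb]
    symm
    calc ⁅s (p a) * z, s (p b) * w⁆
        = s (p a) * (z * s (p b)) * (w * z⁻¹) * (s (p a))⁻¹ * w⁻¹ * (s (p b))⁻¹ := by
          simp only [commutatorElement_def]; group
      _ = s (p a) * (s (p b) * z) * (z⁻¹ * w) * (s (p a))⁻¹ * w⁻¹ * (s (p b))⁻¹ := by rw [hz' (s (p b)), hw' z⁻¹]
      _ = s (p a) * s (p b) * (w * (s (p a))⁻¹) * w⁻¹ * (s (p b))⁻¹ := by group
      _ = ⁅s (p a), s (p b)⁆ := by rw [← hw' (s (p a))⁻¹, commutatorElement_def]; group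
  rw [injective_iff_map_eq_one]
  intro x hx
  obtain ⟨g, rfl⟩ := key (hE ▸ Subgroup.mem_top x)
  rw [hps] at hx
  rw [hx, map_one]

/-- the multiplier of the Chevalley group -/
theorem hasSchurMultiplier_group [Finite K] (S : Setup D T) (hperf : commutator (D.SteinbergCover K) = ⊤)
    (hsplit : CoverSplits D K) {A : Type w} [CommGroup A]
    (hA : ∀ θ : D.SteinbergCover K →* ↥(D.group K), (∀ g, ((θ g : ↥(D.group K)) : GL D.Idx K) = coverHom K S g) →
      Nonempty (θ.ker ≃* A)) :
    Cfsg.HasSchurMultiplier ↥(D.group K) A := by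
  obtain ⟨θ, hs, hc, hθ⟩ := (coverSys K S).exists_toGroup (cover_top K)
  haveI : Finite (D.SteinbergCover K) := (coverSys K S).finite_of_gen (cover_top K)
  obtain ⟨e⟩ := hA θ hθ
  refine CfsgLib.SLCover.hasSchurMultiplier_of_closed θ hs hc hperf (fun E _ _ p hp hpc hE => ?_) e
  obtain ⟨s, hs'⟩ := hsplit E p hp hpc
  exact injective_of_split p hpc hE hs'

/-- trivial multiplier when the kernel of the pairing is trivial -/
theorem hasCyclicSchurMultiplier_group_one [Finite K] (S : Setup D T)
    (hperf : commutator (D.SteinbergCover K) = ⊤) (hsplit : CoverSplits D K) {C : CenterData}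
    (hC : CenterOk D C) (hd : C.d = 1) :
    Cfsg.HasCyclicSchurMultiplier ↥(D.group K) 1 := by
  refine hasSchurMultiplier_group S hperf hsplit fun θ hθ => ?_
  have htriv : ∀ g : θ.ker, g = 1 := by
    rintro ⟨g, hg⟩
    have h1 : coverHom K S g = 1 := by rw [← hθ, MonoidHom.mem_ker.1 hg]; rfl
    obtain ⟨c, hc, rfl⟩ := (coverSys K S).ker_torus (cover_top K) h1
    obtain ⟨z, hz, rfl⟩ := ker_hPar hC hc
    rw [hd, pow_one] at hz
    refine Subtype.ext ?_
    simp only [hz, one_zpow]
    exact map_one _
  haveI : Unique θ.ker := ⟨⟨1⟩, htriv⟩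
  haveI : Unique (Multiplicative (ZMod 1)) := ⟨⟨1⟩, fun a => Subsingleton.elim a 1⟩
  exact ⟨MulEquiv.ofUnique⟩

theorem coverSplits_big (S : Setup D T) (hdata : BigData D) (hK : ∃ s : Finset K, 4 < s.card) : CoverSplits D K :=
  fun _ _ p hp hpc => cover_splits_big S hK hdata p hp hpc

end CfsgLib.Steinberg
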